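import Cfsg.Agent.Lib.Solv.TIConj.Semilinear

/-!
An inverse-closed additive set of units (with zero) of a ring of characteristic two, closed under
`s t s` and containing one, is commutative.
-/

set_option autoImplicit false
set_option linter.style.haveILetI false
set_option linter.unusedSectionVars false

namespace Cfsg.Agent.Solv.TIConj

universe u v
variable {R : Type v} [Ring R]

/-- An additive set of units with zero, closed under inversion and `s t s`. -/
structure DivSet (S : AddSubgroup R) : Prop where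
  nontriv : (1 : R) ≠ 0
  two : ∀ x : R, x + x = 0
  one : 1 ∈ S
  inv : ∀ s ∈ S, s ≠ 0 → ∃ t ∈ S, s * t = 1 ∧ t * s = 1
  sts : ∀ s ∈ S, ∀ t ∈ S, s * t * s ∈ S

theorem DivSet.kill {S : AddSubgroup R} (D : DivSet S) {s x : R} (hs : s ∈ S) (hx : x ≠ 0)
    (h : s * x = 0) : s = 0 := by
  by_contra h0
  obtain ⟨t, -, -, ht⟩ := D.inv s hs h0
  exact hx (by rw [← one_mul x, ← ht, mul_assoc, h, mul_zero])

theorem DivSet.pow_mem {S : AddSubgroup R} (D : DivSet S) {s : R} (hs : s ∈ S) :
    ∀ n, s ^ n ∈ S := by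
  intro n
  induction n using Nat.twoStepInduction with
  | zero => rw [pow_zero]; exact D.one
  | one => rw [pow_one]; exact hs
  | more n ih _ =>
    have h := D.sts s hs _ ih
    rwa [← pow_succ', ← pow_succ] at h

section

variable {K : Type u} [Field K] [Fintype K] [DecidableEq K] [CharP K 2] (ι : K →+* R)

theorem semi_unique {σ τ : RingAut K} {a : R} (h : Semi ι σ a) (h' : Semi ι τ a) (hne : σ ≠ τ) :
    a = 0 := by
  rw [← comp_self ι h, comp_other ι h' hne]

theorem smul_pow_eq {σ : RingAut K} {a : R} (ha : Semi ι σ a) (l : K) (n : ℕ) :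
    (ι l * a) ^ n = ι (∏ i ∈ Finset.range n, (σ ^ i) l) * a ^ n := by
  induction n with
  | zero => simp
  | succ n ih =>
    rw [pow_succ', ih, Finset.prod_range_succ', pow_zero, RingAut.one_apply, mul_comm _ l,
      map_mul, mul_assoc, ← mul_assoc a, ha, map_prod, pow_succ' a n]
    rw [Finset.prod_congr rfl (fun i _ => by rw [pow_succ']; rfl :
      ∀ i ∈ Finset.range n, σ ((σ ^ i) l) = (σ ^ (i + 1)) l)]
    simp [mul_assoc]

theorem exists_sqrt (c : K) : ∃ f : K, f * f = c :=
  (FiniteField.isSquare_of_char_two (ringChar.eq K 2) c).imp fun _ h => h.symm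

theorem sqrt_unique {x y : K} (h : x * x = y * y) : x = y :=
  frobenius_inj K 2 (by simpa [frobenius_def, pow_two] using h)

/-- Existence of an eigenvector of a semilinear element. -/
theorem exists_eigen {σ : RingAut K} {a W : R} (ha : Semi ι σ a) (hW : W ≠ 0)
    (haW : a * W = W * a) {ρ α : K} (hρ : ρ ≠ 0) (hW' : a ^ orderOf σ * W = ι ρ * W)
    (hα : nm σ α = ρ) : ∃ Y : R, Y ≠ 0 ∧ a * Y = ι α * Y := by
  have hα0 : α ≠ 0 := fun e => hρ (by
    rw [← hα, nm]
    exact Finset.prod_eq_zero (Finset.mem_range.2 (orderOf_pos σ)) (by simp [e]))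
  set c : ℕ → K := fun i => (∏ j ∈ Finset.range i, (σ ^ j) α)⁻¹ with hc
  have hstep : ∀ i, σ (c i) = α * c (i + 1) := fun i => by
    simp only [hc]
    rw [Finset.prod_range_succ', pow_zero, RingAut.one_apply, map_inv₀, map_prod,
      Finset.prod_congr rfl (fun j _ => by rw [pow_succ']; rfl :
        ∀ j ∈ Finset.range i, σ ((σ ^ j) α) = (σ ^ (j + 1)) α), mul_inv, mul_left_comm,
      mul_inv_cancel₀ hα0, mul_one]
  obtain ⟨f, hf⟩ := exists_sum_ne_zero ι σ (fun i => ι (c i) * (a ^ i * W)) (by simp [hc, hW])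
  set T : ℕ → R := fun i => ι ((σ ^ i) f) * (ι (c i) * (a ^ i * W)) with hT
  refine ⟨∑ i ∈ Finset.range (orderOf σ), T i, hf, ?_⟩
  have htop : T (orderOf σ) = T 0 := by
    simp only [hT, pow_orderOf_eq_one, pow_zero, hc, Finset.range_zero, Finset.prod_empty, inv_one,
      map_one, one_mul]
    rw [show (∏ j ∈ Finset.range (orderOf σ), (σ ^ j) α) = ρ from hα, hW', ← mul_assoc (ι ρ⁻¹),
      ← map_mul, inv_mul_cancel₀ hρ, map_one, one_mul]
  have hnext : ∀ i, a * T i = ι α * T (i + 1) := fun i => by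
    simp only [hT]
    rw [← mul_assoc, ha, mul_assoc, ← mul_assoc a, ha, hstep, mul_assoc (ι _) a, ← mul_assoc a,
      ← pow_succ', pow_succ' σ, show (σ * σ ^ i) f = σ ((σ ^ i) f) from rfl]
    simp only [← mul_assoc, ← map_mul]
    congr 3
    ring
  have h1 := Finset.sum_range_succ' T (orderOf σ)
  have h2 := Finset.sum_range_succ T (orderOf σ)
  rw [h2, htop] at h1
  rw [Finset.mul_sum, Finset.sum_congr rfl fun i _ => hnext i, ← Finset.mul_sum,
    ← add_right_cancel h1]

/-- An embedded field that is maximal in `S`. -/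
structure Emb (S : AddSubgroup R) : Prop where
  mem : ∀ f, ι f ∈ S
  max : ∀ u ∈ S, Semi ι 1 u → ∃ c, u = ι c

variable {S : AddSubgroup R} (D : DivSet S) (E : Emb ι S)
include D E

theorem comp_one_mem {u : R} (hu : u ∈ S) : ∃ c, comp ι 1 u = ι c :=
  E.max _ (proj_one ι u ▸ proj_mem ι S E.mem D.sts 1 1 hu) (semi_comp ι 1 u)

theorem no_invol {σ : RingAut K} (hσ : σ ≠ 1) (h2 : σ * σ = 1) {w : R} (hw : w ∈ S)
    (hsw : Semi ι σ w) : w = 0 := by
  by_contra hw0
  have hinv : σ⁻¹ = σ := inv_eq_of_mul_eq_one_right h2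
  have hmul : ∀ l, ι (l + σ l) * w ∈ S := fun l => by
    have h := proj_mem ι S E.mem D.sts σ l hw
    rwa [proj_eq ι hσ, hinv, comp_self ι hsw, ← add_mul, ← map_add] at h
  have hww : w * w ∈ S := by
    have := D.sts w hw 1 D.one
    rwa [mul_one] at this
  obtain ⟨c, hc⟩ := E.max _ hww (h2 ▸ hsw.mul ι hsw)
  have hc0 : c ≠ 0 := fun e => hw0 (D.kill hw hw0 (by rw [hc, e, map_zero]))
  have hσc : σ c = c := smul_cancel ι hw0 (by rw [← hsw, ← hc, mul_assoc])
  obtain ⟨f, hf⟩ := exists_sqrt c⁻¹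
  have hσf : σ f = f := sqrt_unique (by rw [← map_mul, hf, map_inv₀, hσc])
  obtain ⟨x, hx⟩ : ∃ x, x + σ x ≠ 0 := by
    by_contra hno
    push Not at hno
    exact hσ (RingEquiv.ext fun x => (CharTwo.add_eq_zero.1 (hno x)).symm)
  have hσσ : σ (σ x) = x := congrArg (fun e : RingAut K => e x) h2
  have hfw : ι f * w ∈ S := by
    have h := hmul (x * f / (x + σ x))
    rwa [map_div₀, map_mul σ, map_add σ, hσσ, hσf, add_comm (σ x) x, ← add_div, ← add_mul,
      mul_div_assoc, mul_div_cancel₀ _ hx] at h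
  have hsq : (ι f * w) * (ι f * w) = 1 := by
    rw [mul_assoc, ← mul_assoc w, hsw, hσf, mul_assoc (ι f) w w, ← mul_assoc, ← map_mul, hf, hc,
      ← map_mul, inv_mul_cancel₀ hc0, map_one]
  have h1 : ι f * w + 1 = 0 := by
    by_contra hne
    refine hne (D.kill (S.add_mem hfw D.one) hne ?_)
    rw [add_mul, mul_add, hsq, mul_one, one_mul, add_comm (1 : R), ← add_assoc]
    have := D.two (ι f * w)
    abel_nf at this ⊢
    rw [this]
    have h2' := D.two 1
    abel_nf at h2'
    rw [h2', add_zero]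
  have h1' : ι f * w = 1 := by
    rw [eq_neg_of_add_eq_zero_left h1]
    exact neg_eq_of_add_eq_zero_right (D.two 1)
  exact D.nontriv (semi_unique ι (h1' ▸ hsw.smul ι f) (semi_one ι) hσ)

theorem mixed_false {σ : RingAut K} (hσ : σ ≠ 1) (hσ2 : σ ≠ σ⁻¹) {a b : R} (ha : Semi ι σ a)
    (hb : Semi ι σ⁻¹ b) (ha0 : a ≠ 0) (hab : a * b = 0) (hba : b * a = 0)
    (hT : ∀ l, ι l * a + ι (σ⁻¹ l) * b ∈ S) : False := by
  set o := orderOf σ with ho
  have ho1 : σ ^ o = 1 := pow_orderOf_eq_one σ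
  have ho2 : σ⁻¹ ^ o = 1 := by rw [inv_pow, ho1, inv_one]
  have hpow : ∀ l l' : K, ∀ n, (ι l * a + ι l' * b) ^ (n + 1) =
      (ι l * a) ^ (n + 1) + (ι l' * b) ^ (n + 1) := by
    intro l l' n
    have h1 : (ι l * a) * (ι l' * b) = 0 := by
      rw [mul_assoc, ← mul_assoc a, ha, mul_assoc, hab, mul_zero, mul_zero]
    have h2 : (ι l' * b) * (ι l * a) = 0 := by
      rw [mul_assoc, ← mul_assoc b, hb, mul_assoc, hba, mul_zero, mul_zero]
    induction n with
    | zero => simp
    | succ n ih =>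
      rw [pow_succ, ih, add_mul, mul_add, mul_add, ← pow_succ, ← pow_succ,
        pow_succ (ι l * a) n, mul_assoc _ _ (ι l' * b), h1, mul_zero, pow_succ (ι l' * b) n,
        mul_assoc _ _ (ι l * a), h2, mul_zero]
      simp [pow_succ]
  obtain ⟨n, hn⟩ : ∃ n, o = n + 1 :=
    ⟨o - 1, (Nat.succ_pred_eq_of_pos (orderOf_pos σ)).symm⟩
  have hC : ∀ l, ∃ c, (ι l * a + ι (σ⁻¹ l) * b) ^ o = ι c ∧ ι c * a = ι (nm σ l) * a ^ (o + 1) := by
    intro l
    have hs : Semi ι 1 ((ι l * a + ι (σ⁻¹ l) * b) ^ o) := by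
      rw [hn, hpow, ← hn]
      refine Semi.add ι ?_ ?_
      · exact ho1 ▸ ((ha.smul ι l).pow ι o)
      · exact ho2 ▸ ((hb.smul ι (σ⁻¹ l)).pow ι o)
    obtain ⟨c, hc⟩ := E.max _ (D.pow_mem (hT l) o) hs
    refine ⟨c, hc, ?_⟩
    rw [← hc, hn, hpow, ← hn, add_mul, smul_pow_eq ι ha, smul_pow_eq ι hb, mul_assoc, ← pow_succ,
      mul_assoc, show b ^ o * a = 0 by rw [hn, pow_succ, mul_assoc, hba, mul_zero], mul_zero,
      add_zero]
    rfl
  obtain ⟨c1, hc1, hc1'⟩ := hC 1
  rw [nm, Finset.prod_eq_one (fun i _ => map_one (σ ^ i)), map_one, one_mul] at hc1'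
  set t := ι 1 * a + ι (σ⁻¹ 1) * b with ht
  have hct : comp ι σ t = a := by
    rw [ht, map_add, comp_self ι (ha.smul ι 1), comp_other ι (hb.smul ι _) hσ2, add_zero, map_one,
      one_mul]
  have ht0 : t ≠ 0 := fun e => ha0 (by rw [← hct, e, map_zero])
  have hc0 : c1 ≠ 0 := fun e => by
    rw [e, map_zero] at hc1
    obtain ⟨s, -, hts, -⟩ := D.inv t (hT 1) ht0
    have : ∀ k, t ^ k ≠ 0 := fun k => by
      induction k with
      | zero => simpa using D.nontriv
      | succ k ih =>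
        intro e
        exact ih (by rw [← mul_one (t ^ k), ← hts, ← mul_assoc, ← pow_succ, e, zero_mul])
    exact this o hc1
  have hσc : σ c1 = c1 := by
    have hcomm : t * ι c1 = ι c1 * t := by rw [← hc1, ← pow_succ', ← pow_succ]
    have hl : Semi ι σ (ι (σ c1) * (ι 1 * a)) := (ha.smul ι 1).smul ι _
    have h := congrArg (comp ι σ) hcomm
    rw [ht, add_mul, mul_add, ha.smul ι 1, hb.smul ι (σ⁻¹ 1), map_add, map_add, comp_self ι hl,
      comp_other ι ((hb.smul ι (σ⁻¹ 1)).smul ι _) hσ2, comp_self ι ((ha.smul ι 1).smul ι c1),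
      comp_other ι ((hb.smul ι (σ⁻¹ 1)).smul ι c1) hσ2, add_zero, add_zero, map_one, one_mul] at h
    exact smul_cancel ι ha0 h
  obtain ⟨l, hl0, hl⟩ := exists_nm_eq σ (c := c1⁻¹) (by rw [map_inv₀, hσc]) (inv_ne_zero hc0)
  obtain ⟨c, hc, hc'⟩ := hC l
  have hc1c : c = 1 := smul_cancel ι ha0 (by
    rw [hc', ← hc1', ← mul_assoc, ← map_mul, hl, inv_mul_cancel₀ hc0])
  rw [hc1c, map_one] at hc
  set x := ι l * a + ι (σ⁻¹ l) * b with hx
  have hx1 : x - 1 ≠ 0 := fun e => by
    have h := congrArg (comp ι σ) (sub_eq_zero.1 e)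
    rw [hx, map_add, comp_self ι (ha.smul ι l), comp_other ι (hb.smul ι _) hσ2, add_zero,
      comp_other ι (semi_one ι) hσ] at h
    rcases smul_eq_zero ι h with e' | e'
    · exact hl0 e'
    · exact ha0 e'
  have hgeom : ∑ i ∈ Finset.range o, x ^ i = 0 := by
    by_contra hne
    refine hx1 (D.kill (S.sub_mem (hT l) D.one) hne ?_)
    rw [mul_geom_sum, hc, sub_self]
  have h := congrArg (comp ι (1 : RingAut K)) hgeom
  rw [map_sum, map_zero, hn, Finset.sum_range_succ', pow_zero, comp_self ι (semi_one ι),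
    Finset.sum_eq_zero, zero_add] at h
  · exact D.nontriv h
  intro i hi
  have hlt : i + 1 < o := by rw [Finset.mem_range] at hi; omega
  rw [hx, hpow, map_add, comp_other ι ((ha.smul ι l).pow ι (i + 1))
    (pow_ne_one_of_lt_orderOf (Nat.succ_ne_zero i) hlt).symm,
    comp_other ι ((hb.smul ι _).pow ι (i + 1)) (fun e => pow_ne_one_of_lt_orderOf
      (Nat.succ_ne_zero i) (show i + 1 < orderOf σ⁻¹ by rwa [orderOf_inv]) e.symm), add_zero]

theorem eigen_false {σ : RingAut K} (hσ : σ ≠ 1) (hσ2 : σ ≠ σ⁻¹) {a b Y : R} (ha : Semi ι σ a)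
    (hb : Semi ι σ⁻¹ b) (hba : b * a = 1) (hab : a + b ∈ S) {α : K} (hα : α ≠ 0) (hY : Y ≠ 0)
    (haY : a * Y = ι α * Y) : False := by
  have hbY : b * Y = ι (σ⁻¹ α)⁻¹ * Y := by
    have h : Y = ι (σ⁻¹ α) * (b * Y) := by
      rw [← mul_assoc, ← hb, mul_assoc, ← haY, ← mul_assoc, hba, one_mul]
    calc b * Y = ι (σ⁻¹ α)⁻¹ * (ι (σ⁻¹ α) * (b * Y)) := by
          rw [← mul_assoc, ← map_mul, inv_mul_cancel₀ ((map_ne_zero _).2 hα), map_one, one_mul]
      _ = _ := by rw [← h]
  set ν := α + (σ⁻¹ α)⁻¹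
  have hv : a + b + ι ν ∈ S := S.add_mem hab (E.mem ν)
  have h0 := D.kill hv hY (by rw [add_mul, add_mul, haY, hbY, ← add_mul, ← map_add, D.two])
  have h := congrArg (comp ι σ) h0
  rw [map_add, map_add, comp_self ι ha, comp_other ι hb hσ2, comp_other ι (semi_range ι ν) hσ,
    add_zero, add_zero, map_zero] at h
  exact D.nontriv (by rw [← hba, h, mul_zero])

theorem unit_false {σ : RingAut K} (hσ : σ ≠ 1) (hσ2 : σ ≠ σ⁻¹) {a b : R} (ha : Semi ι σ a)
    (hb : Semi ι σ⁻¹ b) (hab : a * b = 1) (hba : b * a = 1)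
    (hT : ∀ μ, ι μ * a + ι (σ⁻¹ μ) * b ∈ S) : False := by
  have ha0 : a ≠ 0 := fun e => D.nontriv (by rw [← hab, e, zero_mul])
  have htS : a + b ∈ S := by simpa using hT 1
  set o := orderOf σ with ho
  have ho1 : σ ^ o = 1 := pow_orderOf_eq_one σ
  -- powers
  have hw : ∀ n, a ^ n + b ^ n ∈ S := by
    let M := AddSubgroup.closure (Set.range fun k => (a + b) ^ k)
    have hMS : M ≤ S := by
      rw [AddSubgroup.closure_le]
      rintro _ ⟨k, rfl⟩
      exact D.pow_mem htS k
    have hstep : ∀ x ∈ M, (a + b) * x ∈ M := by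
      intro x hx
      induction hx using AddSubgroup.closure_induction with
      | mem y hy =>
        obtain ⟨k, rfl⟩ := hy
        exact AddSubgroup.subset_closure ⟨k + 1, pow_succ' _ _⟩
      | zero => rw [mul_zero]; exact M.zero_mem
      | add y y' _ _ h h' => rw [mul_add]; exact M.add_mem h h'
      | neg y _ h => rw [mul_neg]; exact M.neg_mem h
    suffices ∀ n, a ^ n + b ^ n ∈ M from fun n => hMS (this n)
    intro n
    induction n using Nat.twoStepInduction with
    | zero => rw [pow_zero, pow_zero, D.two]; exact M.zero_mem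
    | one => exact AddSubgroup.subset_closure ⟨1, by simp⟩
    | more n ih ih' =>
      have e : a ^ (n + 2) + b ^ (n + 2) =
          (a + b) * (a ^ (n + 1) + b ^ (n + 1)) - (a ^ n + b ^ n) := by
        have e1 : b * a ^ (n + 1) = a ^ n := by rw [pow_succ', ← mul_assoc, hba, one_mul]
        have e2 : a * b ^ (n + 1) = b ^ n := by rw [pow_succ', ← mul_assoc, hab, one_mul]
        rw [add_mul, mul_add, mul_add, ← pow_succ', ← pow_succ', e1, e2]
        abel
      rw [e]
      exact M.sub_mem (hstep _ ih') ih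
  have hpowab : ∀ n, a ^ n * b ^ n = 1 := fun n => by
    rw [← (show Commute a b from hab.trans hba.symm).mul_pow, hab, one_pow]
  have hpowba : ∀ n, b ^ n * a ^ n = 1 := fun n => by
    rw [← (show Commute b a from hba.trans hab.symm).mul_pow, hba, one_pow]
  rcases Nat.even_or_odd o with ⟨k, hk⟩ | hodd
  · -- even order
    have hk0 : 0 < k := by have := orderOf_pos σ; omega
    have hkne : σ ^ k ≠ 1 := pow_ne_one_of_lt_orderOf (by omega) (by omega)
    have hk2 : σ ^ k * σ ^ k = 1 := by rw [← pow_add, ← hk, ho1]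
    have hbk : Semi ι (σ ^ k) (b ^ k) := by
      have := hb.pow ι k
      rwa [inv_pow, inv_eq_of_mul_eq_one_right hk2] at this
    have h0 := no_invol ι D E hkne hk2 (hw k) ((ha.pow ι k).add ι hbk)
    have hab' : a ^ k = b ^ k := by
      rw [eq_neg_of_add_eq_zero_left h0]
      exact neg_eq_of_add_eq_zero_right (D.two _)
    have hao : a ^ o = 1 := by
      rw [hk, pow_add]
      nth_rw 2 [hab']
      exact hpowab k
    obtain ⟨Y, hY, haY⟩ := exists_eigen ι (W := 1) ha D.nontriv (by rw [mul_one, one_mul])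
      (ρ := 1) (α := 1) one_ne_zero (by rw [← ho, hao, map_one])
      (by rw [nm]; exact Finset.prod_eq_one fun i _ => map_one (σ ^ i))
    exact eigen_false ι D E hσ hσ2 ha hb hba htS one_ne_zero hY haY
  -- odd order
  set z := a ^ o with hz
  set zi := b ^ o with hzi
  have hzs : Semi ι 1 z := ho1 ▸ ha.pow ι o
  have hzis : Semi ι 1 zi := by
    have := hb.pow ι o
    rwa [inv_pow, ho1, inv_one] at this
  obtain ⟨c0, hc0⟩ := E.max _ (hw o) (hzs.add ι hzis)
  have hσc : σ c0 = c0 := by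
    refine smul_cancel ι ha0 ?_
    rw [← ha c0, ← hc0]
    have e1 : a * zi = zi * a := ((show Commute a b from hab.trans hba.symm).pow_right o).eq
    rw [mul_add, add_mul, e1, ← pow_succ', ← pow_succ]
  have hzz : z * zi = 1 := hpowab o
  have hzq : z * z = ι c0 * z + 1 := by
    have h : zi = ι c0 - z := by rw [← hc0]; abel
    have e : zi * z = 1 := hpowba o
    rw [h, sub_mul] at e
    have e' : z * z = ι c0 * z - 1 := by rw [← e]; abel
    rw [e', sub_eq_add_neg, neg_eq_of_add_eq_zero_right (D.two 1)]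
  by_cases hroot : ∃ r : K, r * r + c0 * r + 1 = 0
  · -- a root in the field
    obtain ⟨r, hr⟩ := hroot
    have hr0 : r ≠ 0 := fun e => by subst e; simp at hr
    have hrc : c0 + r⁻¹ = r := by
      field_simp
      linear_combination hr - CharTwo.add_self_eq_zero (r * r)
    have hfixr : σ r = r := by
      have h1 : (σ r - r) * (σ r - r⁻¹) = 0 := by
        have h2 := congrArg σ hr
        rw [map_add, map_add, map_mul, map_mul, hσc, map_one, map_zero] at h2
        field_simp
        linear_combination r * h2 - σ r * hr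
      rcases mul_eq_zero.1 h1 with e | e
      · exact sub_eq_zero.1 e
      · have e1 : σ r = r⁻¹ := sub_eq_zero.1 e
        have e2 : (σ * σ) r = r := by
          show σ (σ r) = r
          rw [e1, map_inv₀, e1, inv_inv]
        obtain ⟨m, hm⟩ := hodd
        have e3 : ∀ j, ((σ * σ) ^ j) r = r := fun j => by
          induction j with
          | zero => rfl
          | succ j ih =>
            rw [pow_succ]
            show ((σ * σ) ^ j) ((σ * σ) r) = r
            rw [e2, ih]
        have e4 : σ = (σ * σ) ^ (m + 1) := by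
          rw [← pow_two, ← pow_mul, show 2 * (m + 1) = o + 1 by omega, pow_succ, ho1, one_mul]
        rw [e4, e3]
    obtain ⟨ρ, W, hρ, hρf, hW, haW, hzW⟩ : ∃ (ρ : K) (W : R), ρ ≠ 0 ∧ σ ρ = ρ ∧ W ≠ 0 ∧
        a * W = W * a ∧ z * W = ι ρ * W := by
      by_cases hW0 : z + ι r⁻¹ = 0
      · refine ⟨r⁻¹, 1, inv_ne_zero hr0, by rw [map_inv₀, hfixr], D.nontriv,
          by rw [mul_one, one_mul], ?_⟩
        rw [mul_one, mul_one, eq_neg_of_add_eq_zero_left hW0,
          neg_eq_of_add_eq_zero_right (D.two _)]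
      · refine ⟨r, z + ι r⁻¹, hr0, hfixr, hW0, ?_, ?_⟩
        · rw [mul_add, add_mul, ha, map_inv₀ σ, hfixr, hz, ← pow_succ', ← pow_succ]
        · rw [mul_add, mul_add, hzq, hzs.comm, ← map_mul, mul_inv_cancel₀ hr0, map_one,
            add_comm (ι c0 * z) 1, add_assoc, ← add_mul, ← map_add, hrc, add_comm]
    obtain ⟨α, hα0, hα⟩ := exists_nm_eq σ hρf hρ
    obtain ⟨Y, hY, haY⟩ := exists_eigen ι ha hW haW hρ hzW hα
    exact eigen_false ι D E hσ hσ2 ha hb hba htS hα0 hY haY
  -- the quadratic extension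
  let L : Subring R :=
    { carrier := {x | ∃ p q : K, x = ι p + ι q * z}
      one_mem' := ⟨1, 0, by simp⟩
      zero_mem' := ⟨0, 0, by simp⟩
      add_mem' := by
        rintro _ _ ⟨p, q, rfl⟩ ⟨p', q', rfl⟩
        exact ⟨p + p', q + q', by rw [map_add, map_add, add_mul]; abel⟩
      neg_mem' := by
        rintro _ ⟨p, q, rfl⟩
        exact ⟨-p, -q, by rw [map_neg, map_neg, neg_mul]; abel⟩
      mul_mem' := by
        rintro _ _ ⟨p, q, rfl⟩ ⟨p', q', rfl⟩
        refine ⟨p * p' + q * q', p * q' + q * p' + q * q' * c0, ?_⟩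
        simp only [map_add, map_mul, add_mul, mul_add, mul_assoc]
        rw [show z * ι p' = ι p' * z from hzs p', ← mul_assoc z (ι q'),
          show z * ι q' = ι q' * z from hzs q', mul_assoc (ι q') z z,
          hzq, mul_add, mul_add, mul_one]
        abel }
  have hLcomm : ∀ x ∈ L, ∀ y ∈ L, x * y = y * x := by
    have hcz : ∀ y ∈ L, z * y = y * z := by
      rintro _ ⟨p, q, rfl⟩
      rw [mul_add, add_mul, hzs.comm, ← mul_assoc, hzs.comm]
    have hcι : ∀ f : K, ∀ y ∈ L, ι f * y = y * ι f := by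
      rintro f _ ⟨p, q, rfl⟩
      rw [mul_add, add_mul, ← map_mul, ← map_mul, mul_comm f p, ← mul_assoc, ← map_mul,
        mul_assoc (ι q), hzs.comm, ← mul_assoc, ← map_mul, mul_comm f q]
    rintro _ ⟨p, q, rfl⟩ y hy
    rw [add_mul, mul_add, hcι p y hy, mul_assoc, hcz y hy, ← mul_assoc, hcι q y hy, mul_assoc]
  letI : CommRing L :=
    { (inferInstance : Ring L) with mul_comm := fun x y => Subtype.ext (hLcomm x x.2 y y.2) }
  let j : K →+* L :=
    { toFun := fun f => ⟨ι f, f, 0, by simp⟩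
      map_one' := Subtype.ext ι.map_one
      map_zero' := Subtype.ext ι.map_zero
      map_add' := fun f g => Subtype.ext (ι.map_add f g)
      map_mul' := fun f g => Subtype.ext (ι.map_mul f g) }
  let Z : L := ⟨z, 0, 1, by simp⟩
  have hLf : IsField L := by
    refine ⟨⟨0, 1, fun e => D.nontriv (congrArg Subtype.val e).symm⟩, mul_comm, ?_⟩
    rintro ⟨x, p, q, rfl⟩ hx
    set n := p * p + p * q * c0 + q * q with hn
    have hn0 : n ≠ 0 := by
      intro e
      by_cases hq : q = 0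
      · subst hq
        simp only [mul_zero, zero_mul, add_zero] at hn
        rw [hn, mul_self_eq_zero] at e
        subst e
        exact hx (Subtype.ext (by simp))
      · exact hroot ⟨p / q, by field_simp; linear_combination e⟩
    refine ⟨⟨ι n⁻¹ * (ι (p + q * c0) + ι q * z), n⁻¹ * (p + q * c0), n⁻¹ * q,
      by rw [mul_add, ← map_mul, ← mul_assoc, ← map_mul]⟩, Subtype.ext ?_⟩
    show (ι p + ι q * z) * (ι n⁻¹ * (ι (p + q * c0) + ι q * z)) = 1
    have hl1 : ι n⁻¹ ∈ L := ⟨n⁻¹, 0, by simp⟩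
    rw [← mul_assoc, hLcomm _ ⟨p, q, rfl⟩ _ hl1, mul_assoc]
    have hzι : ∀ f, z * ι f = ι f * z := hzs.comm
    have key : (ι p + ι q * z) * (ι (p + q * c0) + ι q * z) = ι n := by
      rw [add_mul, mul_add, mul_add, mul_assoc (ι q) z, hzι, mul_assoc (ι q) z (ι q * z),
        ← mul_assoc z (ι q), hzι, mul_assoc (ι q) z z, hzq, mul_add, mul_one, mul_add]
      simp only [hn, map_add, map_mul, mul_add, add_mul, ← mul_assoc]
      simp only [← map_mul]
      rw [mul_comm q p]
      have d1 := D.two (ι (p * q) * z)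
      have d2 := D.two (ι (q * q * c0) * z)
      calc _ = ι (p * p) + ι (p * q * c0) + ι (q * q) + (ι (p * q) * z + ι (p * q) * z) +
            (ι (q * q * c0) * z + ι (q * q * c0) * z) := by abel
        _ = _ := by rw [d1, d2, add_zero, add_zero]
    rw [key, ← map_mul, inv_mul_cancel₀ hn0, map_one]
  letI : Field L := hLf.toField
  haveI : Finite L := Finite.of_surjective
    (fun pq : K × K => (⟨ι pq.1 + ι pq.2 * z, pq.1, pq.2, rfl⟩ : L))
    (fun x => by obtain ⟨p, q, h⟩ := x.2; exact ⟨(p, q), Subtype.ext h.symm⟩)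
  letI : Fintype L := Fintype.ofFinite L
  letI : DecidableEq L := Classical.decEq L
  haveI : CharP L 2 := charP_of_injective_ringHom j.injective 2
  let ι' : L →+* R := L.subtype
  have hconj : ∀ p q : K, a * (ι p + ι q * z) * b = ι (σ p) + ι (σ q) * z := fun p q => by
    have e : a * z = z * a := by rw [hz, ← pow_succ', ← pow_succ]
    rw [mul_add, add_mul, ha, mul_assoc, hab, mul_one, ← mul_assoc a, ha, mul_assoc (ι _) a z, e,
      mul_assoc, mul_assoc, hab, mul_one]
  let σL : L →+* L :=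
    { toFun := fun x => ⟨a * x * b, by
        obtain ⟨p, q, h⟩ := x.2
        exact ⟨σ p, σ q, by rw [h, hconj]⟩⟩
      map_one' := Subtype.ext (by show a * 1 * b = 1; rw [mul_one, hab])
      map_zero' := Subtype.ext (by show a * 0 * b = 0; rw [mul_zero, zero_mul])
      map_add' := fun x y => Subtype.ext (by
        show a * (x + y : R) * b = a * x * b + a * y * b
        rw [mul_add, add_mul])
      map_mul' := fun x y => Subtype.ext (by
        show a * (x * y : R) * b = a * x * b * (a * y * b)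
        simp only [mul_assoc]
        rw [← mul_assoc b a, hba, one_mul]) }
  let σ' : RingAut L := RingEquiv.ofBijective σL (Finite.injective_iff_bijective.1 σL.injective)
  have ha' : Semi ι' σ' a := fun x => by
    show a * (x : R) = a * x * b * a
    rw [mul_assoc _ b a, hba, mul_one]
  have hσ'j : ∀ f, σ' (j f) = j (σ f) := fun f => Subtype.ext (by
    show a * ι f * b = ι (σ f)
    rw [ha, mul_assoc, hab, mul_one])
  have hσ'jn : ∀ (n : ℕ) f, (σ' ^ n) (j f) = j ((σ ^ n) f) := fun n => by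
    induction n with
    | zero => intro f; rfl
    | succ n ih =>
      intro f
      rw [pow_succ, pow_succ]
      show (σ' ^ n) (σ' (j f)) = j ((σ ^ n) (σ f))
      rw [hσ'j, ih]
  have hσ'o : σ' ^ o = 1 := by
    refine RingEquiv.ext fun x => Subtype.ext ?_
    have h := (ha'.pow ι' o) x
    change z * (x : R) = (((σ' ^ o) x : L) : R) * z at h
    rw [hLcomm z Z.2 x x.2] at h
    have h' := congrArg (· * zi) h
    simp only [mul_assoc, hzz, mul_one] at h'
    exact h'.symm
  have hord : orderOf σ' = o := by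
    refine orderOf_eq_orderOf_iff.2 fun n => ⟨fun e => RingEquiv.ext fun f => ?_, fun e => ?_⟩
    · refine j.injective ?_
      rw [← hσ'jn, e]; rfl
    · obtain ⟨k, rfl⟩ := orderOf_dvd_of_pow_eq_one e
      rw [pow_mul, hσ'o, one_pow]
  obtain ⟨⟨d, hd⟩, -, hq⟩ := FiniteField.card K 2
  set φ : L →+* L := iterateFrobenius L 2 d with hφ
  have hφd : ∀ x : L, φ x = x ^ Fintype.card K := fun x => by
    rw [hφ, iterateFrobenius_def, hq]; rfl
  have hφj : ∀ f, φ (j f) = j f := fun f => by rw [hφd, ← map_pow, FiniteField.pow_card]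
  have hfix : ∀ x : L, φ x = x → ∃ f, x = j f := by
    intro x hx
    by_contra hno
    push Not at hno
    classical
    have hroots := Polynomial.card_le_degree_of_subset_roots
      (p := (Polynomial.X ^ Fintype.card K - Polynomial.X : Polynomial L))
      (Z := insert x (Finset.univ.image j)) (by
        intro y hy
        have hne := FiniteField.X_pow_card_sub_X_ne_zero L (Fintype.one_lt_card (α := K))
        rw [Polynomial.mem_roots hne, Polynomial.IsRoot, Polynomial.eval_sub, Polynomial.eval_pow,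
          Polynomial.eval_X, sub_eq_zero]
        rcases Finset.mem_insert.1 (Finset.mem_def.2 hy) with rfl | hy'
        · rw [← hφd, hx]
        · obtain ⟨f, -, rfl⟩ := Finset.mem_image.1 hy'
          rw [← hφd, hφj])
    rw [Finset.card_insert_of_notMem (fun h => by
      obtain ⟨f, -, hf⟩ := Finset.mem_image.1 h
      exact hno f hf.symm), Finset.card_image_of_injective _ j.injective, Finset.card_univ,
      FiniteField.X_pow_card_sub_X_natDegree_eq L (Fintype.one_lt_card (α := K))] at hroots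
    omega
  have hZq : Z * Z = j c0 * Z + 1 := Subtype.ext hzq
  have hZnot : ∀ f, Z ≠ j f := fun f e => hroot ⟨f, by
    have h : Z * Z = j c0 * Z + 1 := hZq
    rw [e, ← map_mul, ← map_mul, ← map_one j, ← map_add] at h
    have h' := j.injective h
    linear_combination h' + CharTwo.add_self_eq_zero (c0 * f + 1)⟩
  let Zi : L := ⟨zi, c0, 1, by rw [map_one, one_mul, ← hc0]; rw [add_comm z zi, add_assoc, D.two, add_zero]⟩
  have hZZi : Z * Zi = 1 := Subtype.ext hzz
  have hZφ : φ Z = Zi := by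
    have h1 : φ Z * φ Z = j c0 * φ Z + 1 := by
      rw [← map_mul, hZq, map_add, map_mul, hφj, map_one]
    have h2 : (φ Z - Z) * (φ Z - Zi) = 0 := by
      have h3 : Z + Zi = j c0 := Subtype.ext hc0
      linear_combination h1 - φ Z * h3 + hZZi + CharTwo.add_self_eq_zero (1 : L)
    rcases mul_eq_zero.1 h2 with e | e
    · obtain ⟨f, hf⟩ := hfix Z (sub_eq_zero.1 e)
      exact absurd hf (hZnot f)
    · exact sub_eq_zero.1 e
  have hZiinv : Zi = Z⁻¹ := eq_inv_of_mul_eq_one_right hZZi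
  have hφφ : ∀ x : L, φ (φ x) = x := fun x => by
    obtain ⟨p, q, h⟩ := x.2
    have e : x = j p + j q * Z := Subtype.ext h
    rw [e]
    simp only [map_add, map_mul, hφj, hZφ, hZiinv, map_inv₀, inv_inv]
  have hσ'φ : ∀ x : L, σ' (φ x) = φ (σ' x) := fun x => by rw [hφd, hφd, map_pow]
  have hσ'Z : σ' Z = Z := Subtype.ext (by
    show a * z * b = z
    have e : a * z = z * a := by rw [hz, ← pow_succ', ← pow_succ]
    rw [e, mul_assoc, hab, mul_one])
  obtain ⟨z', hz'⟩ := exists_sqrt Z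
  have hσ'z' : σ' z' = z' := sqrt_unique (by rw [← map_mul, hz', hσ'Z])
  have hZ0 : Z ≠ 0 := fun e => by rw [e, zero_mul] at hZZi; exact zero_ne_one hZZi
  have hz'0 : z' ≠ 0 := fun e => hZ0 (by rw [← hz', e, zero_mul])
  have hφz' : φ z' = z'⁻¹ := sqrt_unique (by rw [← map_mul, hz', hZφ, hZiinv, ← hz', mul_inv])
  obtain ⟨α0, hα00, hα0⟩ := exists_nm_eq σ' hσ'z' hz'0
  set α := α0 / φ α0 with hαdef
  have hαnm : nm σ' α = Z := by
    rw [hαdef, nm, Finset.prod_congr rfl (fun i _ => map_div₀ (σ' ^ i) α0 (φ α0)),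
      Finset.prod_div_distrib]
    have hc : ∀ i, (σ' ^ i) (φ α0) = φ ((σ' ^ i) α0) := fun i => by
      induction i with
      | zero => rfl
      | succ i ih =>
        rw [pow_succ']
        show σ' ((σ' ^ i) (φ α0)) = φ (σ' ((σ' ^ i) α0))
        rw [ih, hσ'φ]
    rw [Finset.prod_congr rfl (fun i _ => hc i), ← map_prod,
      show (∏ i ∈ Finset.range (orderOf σ'), (σ' ^ i) α0) = z' from hα0, hφz', div_inv_eq_mul, hz']
  have hα00' : φ α0 ≠ 0 := (map_ne_zero φ).2 hα00
  have hαne : α ≠ 0 := div_ne_zero hα00 hα00'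
  have hφα : φ α = α⁻¹ := by rw [hαdef, map_div₀, hφφ, inv_div]
  have hden : α + α⁻¹ ≠ 0 := fun e => by
    have h1 : α = α⁻¹ := CharTwo.add_eq_zero.1 e
    have h2 : α * α = 1 := by nth_rw 2 [h1]; exact mul_inv_cancel₀ hαne
    have h3 : α = 1 := sqrt_unique (by rw [h2, one_mul])
    have h4 : Z = 1 := by
      rw [← hαnm, h3, nm]; exact Finset.prod_eq_one fun i _ => map_one _
    exact hZnot 1 (by rw [h4, map_one])
  set μ := (α + α⁻¹)⁻¹ with hμ
  obtain ⟨μK, hμK⟩ := hfix μ (by rw [hμ, map_inv₀, map_add, map_inv₀, hφα, inv_inv, add_comm])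
  have hμ0 : μ ≠ 0 := inv_ne_zero hden
  have hY0 : μ * α⁻¹ = μ * α + 1 := by
    have : μ * (α + α⁻¹) = 1 := inv_mul_cancel₀ hden
    linear_combination this - CharTwo.add_self_eq_zero (μ * α)
  obtain ⟨νK, hνK⟩ := hfix (μ * α + σ'⁻¹ (μ * α⁻¹)) (by
    have hc : ∀ x : L, φ (σ'⁻¹ x) = σ'⁻¹ (φ x) := fun x => by
      refine σ'.injective ?_
      show σ' (φ (σ'.symm x)) = σ' (σ'.symm (φ x))
      rw [hσ'φ, RingEquiv.apply_symm_apply, RingEquiv.apply_symm_apply]
    have hφμ : φ μ = μ := by rw [hμ, map_inv₀, map_add, map_inv₀, hφα, inv_inv, add_comm]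
    rw [map_add, hc, map_mul φ μ α, map_mul φ μ α⁻¹, hφμ, map_inv₀ φ α, hφα, inv_inv, hY0, map_add, map_one]
    ring)
  obtain ⟨Y, hY, haY⟩ := exists_eigen ι' (W := 1) ha' D.nontriv (by rw [mul_one, one_mul]) hZ0
    (by rw [hord, mul_one, mul_one]; rfl) hαnm
  have hbY : b * Y = ι' (σ'⁻¹ α⁻¹) * Y := by
    have hb' : b * ι' α = ι' (σ'⁻¹ α) * b := by
      have h := ha' (σ'⁻¹ α)
      rw [show σ' (σ'⁻¹ α) = α from σ'.apply_symm_apply α] at h
      calc b * ι' α = b * (ι' α * a) * b := by rw [mul_assoc, mul_assoc, hab, mul_one]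
        _ = ι' (σ'⁻¹ α) * b := by rw [← h, ← mul_assoc, hba, one_mul]
    have h : Y = ι' (σ'⁻¹ α) * (b * Y) := by
      rw [← mul_assoc, ← hb', mul_assoc, ← haY, ← mul_assoc, hba, one_mul]
    calc b * Y = ι' (σ'⁻¹ α⁻¹) * (ι' (σ'⁻¹ α) * (b * Y)) := by
          rw [← mul_assoc, ← map_mul, ← map_mul, inv_mul_cancel₀ hαne, map_one, map_one, one_mul]
      _ = _ := by rw [← h]
  have hv : ι μK * a + ι (σ⁻¹ μK) * b + ι νK ∈ S := S.add_mem (hT μK) (E.mem νK)
  have hμinv : σ'⁻¹ μ = j (σ⁻¹ μK) := by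
    refine σ'.injective ?_
    rw [show σ' (σ'⁻¹ μ) = μ from σ'.apply_symm_apply μ, hσ'j, hμK]
    exact congrArg j (σ.apply_symm_apply μK).symm
  have hvY : (ι μK * a + ι (σ⁻¹ μK) * b + ι νK) * Y = 0 := by
    rw [add_mul, add_mul, mul_assoc, mul_assoc, haY, hbY, show ι μK = ι' (j μK) from rfl,
      show ι (σ⁻¹ μK) = ι' (j (σ⁻¹ μK)) from rfl, show ι νK = ι' (j νK) from rfl, ← hμK, ← hμinv,
      ← hνK, ← mul_assoc, ← mul_assoc, ← map_mul ι', ← map_mul ι', ← map_mul σ'⁻¹, ← add_mul,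
      ← map_add, ← add_mul, ← map_add, CharTwo.add_self_eq_zero, map_zero, zero_mul]
  have h0 := congrArg (comp ι σ) (D.kill hv hY hvY)
  rw [map_add, map_add, comp_self ι (ha.smul ι μK), comp_other ι (hb.smul ι _) hσ2,
    comp_other ι (semi_range ι νK) hσ, add_zero, add_zero, map_zero] at h0
  rcases smul_eq_zero ι h0 with e | e
  · exact hμ0 (by rw [hμK, e, map_zero])
  · exact ha0 e

theorem range_all {u : R} (hu : u ∈ S) : ∃ c, u = ι c := by
  refine E.max u hu (semi_one_of_comp ι fun σ hσ => ?_)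
  by_contra ha0
  set a := comp ι σ u with hadef
  have ha : Semi ι σ a := semi_comp ι σ u
  by_cases hσ2 : σ = σ⁻¹
  · have h2 : σ * σ = 1 := by
      nth_rw 1 [hσ2]
      exact inv_mul_cancel σ
    refine hσ (RingEquiv.ext fun l => ?_)
    have h := proj_mem ι S E.mem D.sts σ l hu
    rw [proj_eq ι hσ, ← hσ2, ← hadef, ← add_mul, ← map_add] at h
    rcases smul_eq_zero ι (no_invol ι D E hσ h2 h (ha.smul ι _)) with e | e
    · exact (CharTwo.add_eq_zero.1 e).symm
    · exact absurd e ha0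
  set b := comp ι σ⁻¹ u with hbdef
  have hb : Semi ι σ⁻¹ b := semi_comp ι σ⁻¹ u
  have hT : ∀ l, ι l * a + ι (σ⁻¹ l) * b ∈ S := fun l => by
    have h := proj_mem ι S E.mem D.sts σ l hu
    rwa [proj_eq ι hσ] at h
  have ht : a + b ∈ S := by simpa using hT 1
  have hσσ : σ * σ ≠ 1 := fun e => hσ2 (eq_inv_of_mul_eq_one_left e)
  have hcomp : ∀ f, ∃ c, ι (σ f) * (a * b) + ι (σ⁻¹ f) * (b * a) = ι c := fun f => by
    obtain ⟨c, hc⟩ := comp_one_mem ι D E (D.sts _ ht _ (E.mem f))
    refine ⟨c, ?_⟩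
    have e : (a + b) * ι f * (a + b) = ι (σ f) * (a * a) + ι (σ f) * (a * b) +
        (ι (σ⁻¹ f) * (b * a) + ι (σ⁻¹ f) * (b * b)) := by
      rw [add_mul, ha, hb, add_mul, mul_add, mul_add, mul_assoc, mul_assoc, mul_assoc, mul_assoc]
    have h1 : Semi ι 1 (ι (σ f) * (a * b)) := mul_inv_cancel σ ▸ (ha.mul ι hb).smul ι _
    have h1' : Semi ι 1 (ι (σ⁻¹ f) * (b * a)) := inv_mul_cancel σ ▸ (hb.mul ι ha).smul ι _
    rw [e, map_add, map_add, map_add, comp_other ι ((ha.mul ι ha).smul ι _) (Ne.symm hσσ),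
      comp_self ι h1, comp_self ι h1', comp_other ι ((hb.mul ι hb).smul ι _) (fun e => hσσ (by
        rw [← inv_inj, mul_inv_rev, inv_one]; exact e.symm)), zero_add, add_zero] at hc
    exact hc
  obtain ⟨f, hf⟩ : ∃ f, σ f + σ⁻¹ f ≠ 0 := by
    by_contra hno
    push Not at hno
    exact hσ2 (RingEquiv.ext fun f => CharTwo.add_eq_zero.1 (hno f))
  obtain ⟨c, hc⟩ := hcomp f
  obtain ⟨c1, hc1⟩ := hcomp 1
  simp only [map_one, one_mul] at hc1
  obtain ⟨p, hp⟩ : ∃ p, a * b = ι p := by
    refine ⟨(σ f + σ⁻¹ f)⁻¹ * (c + σ⁻¹ f * c1), ?_⟩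
    have e : ι (σ f + σ⁻¹ f) * (a * b) = ι (c + σ⁻¹ f * c1) := by
      rw [map_add ι c, map_mul, ← hc, ← hc1, mul_add, map_add, add_mul]
      have := D.two (ι (σ⁻¹ f) * (b * a))
      calc ι (σ f) * (a * b) + ι (σ⁻¹ f) * (a * b)
          = ι (σ f) * (a * b) + ι (σ⁻¹ f) * (a * b) +
            (ι (σ⁻¹ f) * (b * a) + ι (σ⁻¹ f) * (b * a)) := by rw [this, add_zero]
        _ = _ := by abel
    rw [map_mul, ← e, ← mul_assoc, ← map_mul, inv_mul_cancel₀ hf, map_one, one_mul]
  obtain ⟨r, hr⟩ : ∃ r, b * a = ι r := ⟨c1 - p, by rw [map_sub, ← hc1, ← hp]; abel⟩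
  have hpr : p = σ r := smul_cancel ι ha0 (by rw [← hp, mul_assoc, hr, ha])
  by_cases hp0 : p = 0
  · have hr0 : r = 0 := (map_eq_zero σ).1 (hpr ▸ hp0)
    exact mixed_false ι D E hσ hσ2 ha hb ha0 (by rw [hp, hp0, map_zero])
      (by rw [hr, hr0, map_zero]) hT
  obtain ⟨l, hl⟩ := exists_sqrt p⁻¹
  have hl1 : l * l * p = 1 := by rw [hl, inv_mul_cancel₀ hp0]
  refine unit_false ι D E hσ hσ2 (ha.smul ι l) (hb.smul ι (σ⁻¹ l)) ?_ ?_ fun μ => ?_
  · rw [mul_assoc, ← mul_assoc a, ha, mul_assoc (ι _) a b, hp, ← map_mul, ← map_mul,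
      show σ (σ⁻¹ l) = l from σ.apply_symm_apply l, ← mul_assoc, hl1, map_one]
  · rw [mul_assoc, ← mul_assoc b, hb, mul_assoc (ι _) b a, hr, ← map_mul, ← map_mul,
      show r = σ⁻¹ p from (σ.symm_apply_apply r).symm.trans (congrArg σ.symm hpr.symm),
      ← map_mul σ⁻¹, ← map_mul σ⁻¹, ← mul_assoc, hl1, map_one, map_one]
  · rw [← mul_assoc, ← mul_assoc, ← map_mul, ← map_mul, ← map_mul σ⁻¹]
    exact hT (μ * l)

end

/-- A division set is commutative and closed under products. -/
theorem DivSet.commute [Finite R] {S : AddSubgroup R} (D : DivSet S) {s t : R} (hs : s ∈ S)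
    (ht : t ∈ S) : s * t = t * s ∧ s * t ∈ S := by
  classical
  let P : Subring R → Prop := fun L => (∀ x ∈ L, x ∈ S) ∧ (∀ x ∈ L, ∀ y ∈ L, x * y = y * x) ∧ s ∈ L
  haveI : Finite (Subring R) := Finite.of_injective (fun L => (L : Set R)) SetLike.coe_injective
  have hbase : P (Subring.closure {s}) := by
    refine ⟨fun x hx => ?_, fun x hx y hy => ?_, Subring.subset_closure rfl⟩
    · rw [Subring.mem_closure_iff] at hx
      induction hx using AddSubgroup.closure_induction with
      | mem y hy =>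
        obtain ⟨n, rfl⟩ := Submonoid.mem_closure_singleton.1 hy
        exact D.pow_mem hs n
      | zero => exact S.zero_mem
      | add a b _ _ ha hb => exact S.add_mem ha hb
      | neg a _ ha => exact S.neg_mem ha
    · letI := Subring.closureCommRingOfComm (s := ({s} : Set R))
        (fun a ha b hb => by rw [Set.mem_singleton_iff.1 ha, Set.mem_singleton_iff.1 hb])
      exact congrArg Subtype.val (mul_comm (⟨x, hx⟩ : Subring.closure {s}) ⟨y, hy⟩)
  obtain ⟨L, -, ⟨hLS, hLc, hsL⟩, hmax⟩ := Finite.exists_le_maximal (p := P) hbase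
  letI : CommRing L :=
    { (inferInstance : Ring L) with mul_comm := fun x y => Subtype.ext (hLc x x.2 y y.2) }
  have hLf : IsField L := by
    refine ⟨⟨0, 1, fun e => D.nontriv (congrArg Subtype.val e).symm⟩, mul_comm, fun {x} hx => ?_⟩
    have hinj : Function.Injective (fun y : L => x * y) := fun y y' h => by
      by_contra hne
      refine hx (Subtype.ext (D.kill (hLS x x.2) (x := ((y - y' : L) : R))
        (fun e => hne (sub_eq_zero.1 (Subtype.ext e))) ?_))
      have := congrArg Subtype.val (show x * (y - y') = 0 by rw [mul_sub]; exact sub_eq_zero.2 h)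
      exact this
    exact (Finite.injective_iff_surjective.1 hinj 1)
  letI : Field L := hLf.toField
  letI : Fintype L := Fintype.ofFinite L
  haveI : CharP L 2 := CharTwo.of_one_ne_zero_of_two_eq_zero one_ne_zero
    (Subtype.ext (by
      rw [← one_add_one_eq_two]
      exact D.two 1))
  let ι : L →+* R := L.subtype
  have hsq : ∀ f : L, ∃ h : L, h * h = f := fun f => exists_sqrt f
  have E : Emb ι S := ⟨fun f => hLS f f.2, fun u hu hcu => by
    have hu' : ∀ x ∈ (L : Set R) ∪ {u}, ∀ y ∈ (L : Set R) ∪ {u}, x * y = y * x := by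
      rintro x (hx | rfl) y (hy | rfl)
      · exact hLc x hx y hy
      · exact ((hcu ⟨x, hx⟩)).symm
      · exact hcu ⟨y, hy⟩
      · rfl
    set L' := Subring.closure ((L : Set R) ∪ {u})
    have hsub : L ≤ L' := fun x hx => Subring.subset_closure (Or.inl hx)
    have hP : P L' := by
      refine ⟨fun x hx => ?_, fun x hx y hy => ?_, hsub hsL⟩
      · rw [Subring.mem_closure_iff] at hx
        induction hx using AddSubgroup.closure_induction with
        | mem y hy =>
          obtain ⟨f, n, rfl⟩ : ∃ (f : L) (n : ℕ), y = (f : R) * u ^ n := by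
            induction hy using Submonoid.closure_induction with
            | mem w hw =>
              rcases hw with hw | rfl
              · exact ⟨⟨w, hw⟩, 0, by simp⟩
              · exact ⟨1, 1, by simp⟩
            | one => exact ⟨1, 0, by simp⟩
            | mul w w' _ _ h h' =>
              obtain ⟨f, n, rfl⟩ := h
              obtain ⟨f', n', rfl⟩ := h'
              refine ⟨f * f', n + n', ?_⟩
              have hc : Commute (u ^ n) (f' : R) := (show Commute u (f' : R) from hcu f').pow_left n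
              rw [Subring.coe_mul, pow_add, mul_assoc, ← mul_assoc (u ^ n), hc.eq, mul_assoc,
                ← mul_assoc]
          obtain ⟨h, rfl⟩ := hsq f
          have hc : Commute (h : R) (u ^ n) := ((show Commute u (h : R) from hcu h).symm).pow_right n
          rw [Subring.coe_mul, mul_assoc, hc.eq, ← mul_assoc]
          exact D.sts _ (hLS h h.2) _ (D.pow_mem hu n)
        | zero => exact S.zero_mem
        | add a b _ _ ha hb => exact S.add_mem ha hb
        | neg a _ ha => exact S.neg_mem ha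
      · letI := Subring.closureCommRingOfComm (s := (L : Set R) ∪ {u}) hu'
        exact congrArg Subtype.val (mul_comm (⟨x, hx⟩ : L') ⟨y, hy⟩)
    exact ⟨⟨u, hmax hP hsub (Subring.subset_closure (Or.inr rfl))⟩, rfl⟩⟩
  obtain ⟨c, hc⟩ := range_all ι D E ht
  obtain ⟨d, hd⟩ := range_all ι D E hs
  refine ⟨?_, ?_⟩
  · rw [hc, hd]; exact hLc d d.2 c c.2
  · rw [hc, hd]; exact hLS _ (L.mul_mem d.2 c.2)

end Cfsg.Agent.Solv.TIConj
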