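import Cfsg.Agent.Lib.Solv.Cores
import Cfsg.Agent.Lib.Solv.Component
import Cfsg.Agent.Lib.Solv.PGroupPhi

/-!
A TI elementary abelian two-group, a conjugate of which lies in the two-core of the normalizer.
-/

open Cfsg

set_option autoImplicit false
set_option linter.style.haveILetI false
set_option linter.unusedSectionVars false

open scoped commutatorElement

namespace Cfsg.Agent.Solv.TIConj

universe u
variable {G : Type u} [Group G]

/-- The conjugate of a subgroup. -/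
def cj (x : G) (H : Subgroup G) : Subgroup G := H.map (MulAut.conj x).toMonoidHom

theorem mem_cj {x y : G} {H : Subgroup G} : y ∈ cj x H ↔ x⁻¹ * y * x ∈ H := by
  constructor
  · rintro ⟨h, hh, rfl⟩
    simpa [mul_assoc] using hh
  · intro h
    exact ⟨_, h, by simp [mul_assoc]⟩

theorem conj_mem_cj {x y : G} {H : Subgroup G} (h : y ∈ H) : x * y * x⁻¹ ∈ cj x H :=
  mem_cj.2 (by simpa [mul_assoc] using h)

theorem cj_cj (x y : G) (H : Subgroup G) : cj x (cj y H) = cj (x * y) H := by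
  ext z
  simp only [mem_cj, mul_inv_rev, mul_assoc]

theorem cj_one (H : Subgroup G) : cj 1 H = H := by
  ext z
  simp [mem_cj]

theorem cj_eq_of_normalizer {x : G} {H : Subgroup G}
    (h : x ∈ Subgroup.normalizer (H : Set G)) : cj x H = H := by
  ext z
  rw [mem_cj, Subgroup.mem_normalizer_iff.1 (inv_mem h) z, inv_inv]

theorem normalizer_of_cj_eq {x : G} {H : Subgroup G} (h : cj x H = H) :
    x ∈ Subgroup.normalizer (H : Set G) := by
  refine Subgroup.mem_normalizer_iff.2 fun z => ⟨fun hz => h ▸ conj_mem_cj hz, fun hz => ?_⟩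
  rw [← h, mem_cj] at hz
  simpa [mul_assoc] using hz

theorem card_cj (x : G) (H : Subgroup G) : Nat.card (cj x H) = Nat.card H :=
  Subgroup.card_map_of_injective (MulAut.conj x).injective

variable [Finite G]

/-- Central elements modulo a normal subgroup. -/
theorem exists_central_mod {P A X : Subgroup G} (hP : IsPGroup 2 P) (hXP : X ≤ P)
    (hX : ∀ p ∈ P, ∀ x ∈ X, p * x * p⁻¹ ∈ X) (hne : ∃ x ∈ X, x ∉ A) :
    ∃ x ∈ X, x ∉ A ∧ ∀ p ∈ P, ⁅x, p⁆ ∈ A := by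
  classical
  haveI : Fact (Nat.Prime 2) := ⟨Nat.prime_two⟩
  haveI := hP.isNilpotent
  by_contra hno
  push Not at hno
  have key : ∀ k, ∃ x : P, (x : G) ∈ X ∧ (x : G) ∉ A ∧ x ∈ Subgroup.lowerCentralSeries (⊤ : Subgroup P) k := by
    intro k
    induction k with
    | zero =>
      obtain ⟨x, hx, hxA⟩ := hne
      exact ⟨⟨x, hXP hx⟩, hx, hxA, by simp⟩
    | succ k ih =>
      obtain ⟨x, hx, hxA, hxk⟩ := ih
      obtain ⟨p, hp, hpA⟩ := hno x hx hxA
      refine ⟨⁅x, ⟨p, hp⟩⁆, ?_, hpA, ?_⟩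
      · show ⁅(x : G), p⁆ ∈ X
        rw [commutatorElement_def, mul_assoc (x : G), mul_assoc (x : G)]
        exact mul_mem hx (hX p hp _ (inv_mem hx))
      · rw [Subgroup.lowerCentralSeries_succ]
        exact Subgroup.commutator_mem_commutator hxk (Subgroup.mem_top _)
  obtain ⟨x, -, hxA, hxk⟩ := key (Group.nilpotencyClass P)
  rw [Subgroup.lowerCentralSeries_nilpotencyClass, Subgroup.mem_bot] at hxk
  exact hxA (by rw [hxk]; exact one_mem A)

/-- The standing hypotheses. -/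
structure Hy (V Q : Subgroup G) : Prop where
  comm : ∀ a ∈ V, ∀ b ∈ V, a * b = b * a
  sq : ∀ a ∈ V, a * a = 1
  Qle : Q ≤ Subgroup.normalizer (V : Set G)
  Qn : ∀ m ∈ Subgroup.normalizer (V : Set G), ∀ q ∈ Q, m * q * m⁻¹ ∈ Q
  Qp : IsPGroup 2 Q
  Qmax : ∀ X : Subgroup G, X ≤ Subgroup.normalizer (V : Set G) →
    (∀ m ∈ Subgroup.normalizer (V : Set G), ∀ x ∈ X, m * x * m⁻¹ ∈ X) → IsPGroup 2 X → X ≤ Q
  Qc : ∀ x ∈ Subgroup.normalizer (V : Set G), (∀ q ∈ Q, x * q = q * x) → x ∈ Q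
  maxab : ∀ A : Subgroup G, V ≤ A → A ≤ Subgroup.normalizer (V : Set G) →
    (∀ a ∈ A, ∀ b ∈ A, a * b = b * a) →
    (∀ m ∈ Subgroup.normalizer (V : Set G), ∀ a ∈ A, m * a * m⁻¹ ∈ A) → A = V
  ti : ∀ x : G, cj x V = V ∨ cj x V ⊓ V = ⊥

/-- The part of the core centralizing `V`. -/
def PP (V Q : Subgroup G) : Subgroup G := Q ⊓ Subgroup.centralizer (V : Set G)

theorem mem_PP {V Q : Subgroup G} {p : G} :
    p ∈ PP V Q ↔ p ∈ Q ∧ ∀ v ∈ V, v * p = p * v := by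
  rw [PP, Subgroup.mem_inf, Subgroup.mem_centralizer_iff]
  rfl

namespace Hy

variable {V Q : Subgroup G} (h : Hy V Q)
include h

theorem conj_mem {m v : G} (hm : m ∈ Subgroup.normalizer (V : Set G)) (hv : v ∈ V) :
    m * v * m⁻¹ ∈ V := (Subgroup.mem_normalizer_iff.1 hm v).1 hv

theorem inv_eq {v : G} (hv : v ∈ V) : v⁻¹ = v := inv_eq_of_mul_eq_one_right (h.sq v hv)

theorem V_le : V ≤ Q := h.Qmax V Subgroup.le_normalizer (fun _ hm _ hv => h.conj_mem hm hv)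
  fun x => ⟨1, by rw [pow_one, pow_two]; exact Subtype.ext (h.sq x x.2)⟩

theorem P_le {p : G} (hp : p ∈ PP V Q) : p ∈ Subgroup.normalizer (V : Set G) :=
  h.Qle (mem_PP.1 hp).1

omit h in
theorem P_commV {p v : G} (hp : p ∈ PP V Q) (hv : v ∈ V) : v * p = p * v := (mem_PP.1 hp).2 v hv

theorem P_normal {m p : G} (hm : m ∈ Subgroup.normalizer (V : Set G)) (hp : p ∈ PP V Q) :
    m * p * m⁻¹ ∈ PP V Q := by
  refine mem_PP.2 ⟨h.Qn m hm p (mem_PP.1 hp).1, fun v hv => ?_⟩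
  have h1 := P_commV hp (h.conj_mem (inv_mem hm) hv)
  rw [inv_inv] at h1
  calc v * (m * p * m⁻¹) = m * (m⁻¹ * v * m * p) * m⁻¹ := by group
    _ = m * (p * (m⁻¹ * v * m)) * m⁻¹ := by rw [h1]
    _ = m * p * m⁻¹ * v := by group

theorem V_le_P {v : G} (hv : v ∈ V) : v ∈ PP V Q :=
  mem_PP.2 ⟨h.V_le hv, fun w hw => h.comm w hw v hv⟩

/-- Conjugates of `V` are disjoint. -/
theorem ti' {x y a : G} (ha : a ≠ 1) (hx : a ∈ cj x V) (hy : a ∈ cj y V) : cj x V = cj y V := by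
  have h1 : y⁻¹ * a * y ∈ cj (y⁻¹ * x) V := by
    rw [mem_cj] at hx ⊢
    simpa [mul_assoc] using hx
  rcases h.ti (y⁻¹ * x) with e | e
  · have := congrArg (cj y) e
    rwa [cj_cj, mul_inv_cancel_left] at this
  · exfalso
    have h2 : y⁻¹ * a * y ∈ cj (y⁻¹ * x) V ⊓ V := ⟨h1, mem_cj.1 hy⟩
    rw [e, Subgroup.mem_bot] at h2
    refine ha ?_
    calc a = y * (y⁻¹ * a * y) * y⁻¹ := by group
      _ = 1 := by rw [h2]; group

theorem cent_le {x a c : G} (ha : a ≠ 1) (hax : a ∈ cj x V) (hc : c * a = a * c) :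
    c ∈ Subgroup.normalizer (cj x V : Set G) := by
  refine normalizer_of_cj_eq ?_
  rw [cj_cj]
  refine h.ti' ha ?_ hax
  rw [← cj_cj, mem_cj, show c⁻¹ * a * c = a by rw [mul_assoc, ← hc, inv_mul_cancel_left]]
  exact hax

theorem sq_cj {x a : G} (ha : a ∈ cj x V) : a * a = 1 := by
  have h1 := h.sq _ (mem_cj.1 ha)
  calc a * a = x * (x⁻¹ * a * x * (x⁻¹ * a * x)) * x⁻¹ := by group
    _ = 1 := by rw [h1]; group

theorem comm_cj {x a b : G} (ha : a ∈ cj x V) (hb : b ∈ cj x V) : a * b = b * a := by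
  have h1 := h.comm _ (mem_cj.1 ha) _ (mem_cj.1 hb)
  calc a * b = x * (x⁻¹ * a * x * (x⁻¹ * b * x)) * x⁻¹ := by group
    _ = x * (x⁻¹ * b * x * (x⁻¹ * a * x)) * x⁻¹ := by rw [h1]
    _ = b * a := by group

/-- A conjugate of `V` normalizing another one centralizes it. -/
theorem commute_of_le {x y : G} (hne : cj x V ≠ cj y V)
    (hle : ∀ b ∈ cj y V, b ∈ Subgroup.normalizer (cj x V : Set G)) :
    ∀ a ∈ cj x V, ∀ b ∈ cj y V, a * b = b * a := by
  classical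
  haveI := Fintype.ofFinite G
  by_contra hno
  push Not at hno
  obtain ⟨a0, ha0, b0, hb0, hab0⟩ := hno
  let S := Finset.univ.filter fun v : G => v ∈ cj x V ∧ ∃ b ∈ cj y V, v * b ≠ b * v
  obtain ⟨v, hvS, hmax⟩ := S.exists_max_image
    (fun v => (Finset.univ.filter fun b : G => b ∈ cj y V ∧ v * b = b * v).card)
    ⟨a0, Finset.mem_filter.2 ⟨Finset.mem_univ _, ha0, b0, hb0, hab0⟩⟩
  obtain ⟨-, hv, b1, hb1, hvb1⟩ := Finset.mem_filter.1 hvS
  have hmem : ∀ b ∈ cj y V, v * (b * v * b) ∈ cj x V := fun b hb => by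
    refine mul_mem hv ?_
    have := (Subgroup.mem_normalizer_iff.1 (hle b hb) v).1 hv
    rwa [inv_eq_of_mul_eq_one_right (h.sq_cj hb)] at this
  have hcen : ∀ b ∈ cj y V, ∀ b' ∈ cj y V, v * (b * v * b) * b' = b' * (v * (b * v * b)) := by
    intro b hb b' hb'
    by_contra hne'
    have hlt := hmax (v * (b * v * b)) (Finset.mem_filter.2 ⟨Finset.mem_univ _, hmem b hb, b', hb', hne'⟩)
    have hb2 := h.sq_cj hb
    have hbb : v * (b * v * b) * b = b * (v * (b * v * b)) := by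
      have hc : v * (b * v * b) = b * v * b * v := h.comm_cj hv (by
        have := (Subgroup.mem_normalizer_iff.1 (hle b hb) v).1 hv
        rwa [inv_eq_of_mul_eq_one_right hb2] at this)
      calc v * (b * v * b) * b = v * b * v * (b * b) := by group
        _ = (b * b) * (v * b * v) := by rw [hb2, one_mul, mul_one]
        _ = b * (b * v * b * v) := by group
        _ = b * (v * (b * v * b)) := by rw [hc]
    have hvb : v * b ≠ b * v := fun e => by
      refine hne' ?_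
      have : v * (b * v * b) = 1 := by
        rw [← e, mul_assoc v b b, hb2, mul_one, h.sq_cj hv]
      rw [this, one_mul, mul_one]
    refine absurd hlt (not_le.2 (Finset.card_lt_card ((Finset.ssubset_iff_of_subset ?_).2 ⟨b, ?_, ?_⟩)))
    · intro c hc
      obtain ⟨-, hcy, hvc⟩ := Finset.mem_filter.1 hc
      refine Finset.mem_filter.2 ⟨Finset.mem_univ _, hcy, ?_⟩
      have hbc := h.comm_cj hb hcy
      exact ((show Commute v c from hvc).mul_left
        (((show Commute b c from hbc).mul_left hvc).mul_left hbc)).eq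
    · exact Finset.mem_filter.2 ⟨Finset.mem_univ _, hb, hbb⟩
    · exact fun hc => hvb (Finset.mem_filter.1 hc).2.2
  let A0 := cj x V ⊓ Subgroup.centralizer (cj y V : Set G)
  let f : cj y V → A0 := fun b => ⟨v * ((b : G) * v * b), hmem b b.2,
    Subgroup.mem_centralizer_iff.2 fun c hc => (hcen b b.2 c hc).symm⟩
  have hinj : Function.Injective f := by
    intro b b' e
    have e' : (b : G) * v * b = (b' : G) * v * b' := mul_left_cancel (congrArg Subtype.val e)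
    by_contra hne'
    have hk : ((b' : G) * b) * v = v * ((b' : G) * b) := by
      have h2 := h.sq_cj b.2
      have h2' := h.sq_cj b'.2
      calc ((b' : G) * b) * v = b' * ((b : G) * v * b) * b := by
            simp only [mul_assoc]; rw [h2, mul_one]
        _ = b' * ((b' : G) * v * b') * b := by rw [e']
        _ = v * ((b' : G) * b) := by
            rw [show (b' : G) * (b' * v * b') * b = (b' * b') * (v * (b' * b)) by group, h2', one_mul]
    have hne1 : (b' : G) * b ≠ 1 := fun e1 => hne' (Subtype.ext (by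
      rw [eq_inv_of_mul_eq_one_right e1]
      exact inv_eq_of_mul_eq_one_right (h.sq_cj b'.2)))
    have hvn := h.cent_le hne1 (mul_mem b'.2 b.2) hk.symm
    have hmem' : v * (b1 * v * b1) ∈ cj y V := by
      have hvi := inv_eq_of_mul_eq_one_right (h.sq_cj hv)
      have := (Subgroup.mem_normalizer_iff.1 hvn b1).1 hb1
      rw [hvi] at this
      rw [show v * (b1 * v * b1) = v * b1 * v * b1 by group]
      exact mul_mem this hb1
    have h1 : v * (b1 * v * b1) = 1 := by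
      by_contra hne2
      exact hne (h.ti' hne2 (hmem b1 hb1) hmem')
    refine hvb1 ?_
    have hvi := inv_eq_of_mul_eq_one_right (h.sq_cj hv)
    have e1 : b1 * v * b1 = v := by
      rw [eq_inv_of_mul_eq_one_right h1, hvi]
    calc v * b1 = b1 * v * b1 * b1 := by rw [e1]
      _ = b1 * v := by rw [mul_assoc, h.sq_cj hb1, mul_one]
  have hle2 := Nat.card_le_card_of_injective f hinj
  rw [card_cj, ← card_cj x V] at hle2
  have heq : A0 = cj x V := Subgroup.eq_of_le_of_card_ge inf_le_left hle2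
  refine hvb1 ?_
  have hv0 : v ∈ A0 := heq ▸ hv
  exact (Subgroup.mem_centralizer_iff.1 hv0.2 b1 hb1).symm

/-- Commutators and squares of the centralizing part lie in `V`, and its centre is `V`. -/
theorem hall : (∀ p ∈ PP V Q, ∀ r ∈ PP V Q, ⁅p, r⁆ ∈ V) ∧ (∀ p ∈ PP V Q, p * p ∈ V) ∧
    ∀ x ∈ Subgroup.normalizer (V : Set G), (∀ p ∈ PP V Q, x * p = p * x) → x ∈ V := by
  classical
  haveI : Fact (Nat.Prime 2) := ⟨Nat.prime_two⟩
  set P := PP V Q
  -- the centre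
  have hZ : ∀ z ∈ P, (∀ p ∈ P, z * p = p * z) → z ∈ V := by
    intro z hz hc
    let A : Subgroup G := P ⊓ Subgroup.centralizer (P : Set G)
    have hA : A = V := by
      refine h.maxab A (fun v hv => ⟨h.V_le_P hv, Subgroup.mem_centralizer_iff.2 fun p hp =>
        (P_commV hp hv).symm⟩) (fun a ha => h.P_le ha.1)
        (fun a ha b hb => Subgroup.mem_centralizer_iff.1 hb.2 a ha.1) fun m hm a ha =>
          ⟨h.P_normal hm ha.1, Subgroup.mem_centralizer_iff.2 fun p hp => ?_⟩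
      have h1 := Subgroup.mem_centralizer_iff.1 ha.2 _ (h.P_normal (inv_mem hm) hp)
      rw [inv_inv] at h1
      calc p * (m * a * m⁻¹) = m * (m⁻¹ * p * m * a) * m⁻¹ := by group
        _ = m * (a * (m⁻¹ * p * m)) * m⁻¹ := by rw [h1]
        _ = m * a * m⁻¹ * p := by group
    have hzA : z ∈ A := ⟨hz, Subgroup.mem_centralizer_iff.2 fun p hp => (hc p hp).symm⟩
    rwa [hA] at hzA
  let Y : Subgroup G :=
    { carrier := {y | y ∈ P ∧ ∀ p ∈ P, ⁅y, p⁆ ∈ V}
      one_mem' := ⟨one_mem _, fun p _ => by rw [commutatorElement_one_left]; exact one_mem _⟩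
      mul_mem' := fun {a b} ha hb => ⟨mul_mem ha.1 hb.1, fun p hp => by
        rw [show ⁅a * b, p⁆ = a * ⁅b, p⁆ * a⁻¹ * ⁅a, p⁆ by simp [commutatorElement_def, mul_assoc]]
        exact mul_mem (h.conj_mem (h.P_le ha.1) (hb.2 p hp)) (ha.2 p hp)⟩
      inv_mem' := fun {a} ha => ⟨inv_mem ha.1, fun p hp => by
        rw [show ⁅a⁻¹, p⁆ = a⁻¹ * ⁅a, p⁆⁻¹ * a⁻¹⁻¹ by simp [commutatorElement_def, mul_assoc]]
        exact h.conj_mem (inv_mem (h.P_le ha.1)) (inv_mem (ha.2 p hp))⟩ }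
  have hVY : ∀ v ∈ V, v ∈ Y := fun v hv => ⟨h.V_le_P hv, fun p hp => by
    rw [commutatorElement_eq_one_iff_mul_comm.2 (P_commV hp hv)]
    exact one_mem _⟩
  have hPY : ∀ p ∈ P, ∀ y ∈ Y, p * y * p⁻¹ ∈ Y := fun p hp y hy => by
    have e : p * y * p⁻¹ = ⁅p, y⁆ * y := by simp [commutatorElement_def, mul_assoc]
    rw [e]
    refine mul_mem (hVY _ ?_) hy
    rw [← commutatorElement_inv y p]
    exact inv_mem (hy.2 p hp)
  have hY2 : ∀ y ∈ Y, ∀ y' ∈ Y, ⁅y * y, y'⁆ = 1 := fun y hy y' hy' => by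
    have hv := hy.2 y' hy'.1
    rw [show ⁅y * y, y'⁆ = y * ⁅y, y'⁆ * y⁻¹ * ⁅y, y'⁆ by simp [commutatorElement_def, mul_assoc],
      show y * ⁅y, y'⁆ * y⁻¹ = ⁅y, y'⁆ by rw [← P_commV hy.1 hv, mul_inv_cancel_right], h.sq _ hv]
  have hC : ∀ p ∈ P, (∀ y ∈ Y, p * y = y * p) → p ∈ V := by
    intro p hp hc
    by_contra hpV
    let X : Subgroup G := P ⊓ Subgroup.centralizer (Y : Set G)
    have hX : ∀ r ∈ P, ∀ x ∈ X, r * x * r⁻¹ ∈ X := fun r hr x hx =>
      Subgroup.mem_inf.2 ⟨mul_mem (mul_mem hr hx.1) (inv_mem hr), Subgroup.mem_centralizer_iff.2 fun y hy => by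
        have h1 := Subgroup.mem_centralizer_iff.1 hx.2 _ (hPY _ (inv_mem hr) y hy)
        rw [inv_inv] at h1
        calc y * (r * x * r⁻¹) = r * (r⁻¹ * y * r * x) * r⁻¹ := by group
          _ = r * (x * (r⁻¹ * y * r)) * r⁻¹ := by rw [h1]
          _ = r * x * r⁻¹ * y := by group⟩
    obtain ⟨z, hz, hzV, hzc⟩ := exists_central_mod (A := V) (h.Qp.to_le inf_le_left)
      (inf_le_left : X ≤ P) hX ⟨p, ⟨hp, Subgroup.mem_centralizer_iff.2 fun y hy => (hc y hy).symm⟩, hpV⟩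
    have hzY : z ∈ Y := ⟨hz.1, hzc⟩
    let A : Subgroup G := Y ⊓ Subgroup.centralizer (Y : Set G)
    have hA : A = V := by
      refine h.maxab A (fun v hv => ⟨hVY v hv, Subgroup.mem_centralizer_iff.2 fun y hy =>
        (P_commV hy.1 hv).symm⟩) (fun a ha => h.P_le ha.1.1)
        (fun a ha b hb => Subgroup.mem_centralizer_iff.1 hb.2 a ha.1) fun m hm a ha => ?_
      have hYn : ∀ n ∈ Subgroup.normalizer (V : Set G), ∀ y ∈ Y, n * y * n⁻¹ ∈ Y := fun n hn y hy =>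
        ⟨h.P_normal hn hy.1, fun r hr => by
          have h1 := hy.2 _ (h.P_normal (inv_mem hn) hr)
          rw [show ⁅n * y * n⁻¹, r⁆ = n * ⁅y, n⁻¹ * r * n⁻¹⁻¹⁆ * n⁻¹ by
            simp [commutatorElement_def, mul_assoc]]
          exact h.conj_mem hn h1⟩
      refine ⟨hYn m hm a ha.1, Subgroup.mem_centralizer_iff.2 fun y hy => ?_⟩
      have h1 := Subgroup.mem_centralizer_iff.1 ha.2 _ (hYn _ (inv_mem hm) y hy)
      rw [inv_inv] at h1
      calc y * (m * a * m⁻¹) = m * (m⁻¹ * y * m * a) * m⁻¹ := by group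
        _ = m * (a * (m⁻¹ * y * m)) * m⁻¹ := by rw [h1]
        _ = m * a * m⁻¹ * y := by group
    have hzA : z ∈ A := ⟨hzY, hz.2⟩
    rw [hA] at hzA
    exact hzV hzA
  have hYsq : ∀ y ∈ Y, y * y ∈ V := fun y hy => hC _ (mul_mem hy.1 hy.1) fun y' hy' =>
    commutatorElement_eq_one_iff_mul_comm.1 (hY2 y hy y' hy')
  have hcomm : ∀ p ∈ P, ∀ r ∈ P, ⁅p, r⁆ ∈ V := fun p hp r hr => by
    refine hC _ (by rw [commutatorElement_def]; exact mul_mem (mul_mem (mul_mem hp hr) (inv_mem hp)) (inv_mem hr))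
      fun y hy => ?_
    have hact : ∀ s ∈ P, ∃ v ∈ V, s * y * s⁻¹ = v * y := fun s hs =>
      ⟨⁅s, y⁆, by rw [← commutatorElement_inv y s]; exact inv_mem (hy.2 s hs),
        by simp [commutatorElement_def, mul_assoc]⟩
    have hcv : ∀ s ∈ P, ∀ v ∈ V, s * v * s⁻¹ = v := fun s hs v hv => by
      rw [← P_commV hs hv, mul_inv_cancel_right]
    obtain ⟨a, ha, ea⟩ := hact p hp
    obtain ⟨b, hb, eb⟩ := hact r hr
    have ea' : p⁻¹ * y * p = a⁻¹ * y := by
      have hpa : p⁻¹ * a = a * p⁻¹ := (P_commV (inv_mem hp) ha).symm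
      calc p⁻¹ * y * p = a⁻¹ * (a * p⁻¹) * y * p := by group
        _ = a⁻¹ * (p⁻¹ * a) * y * p := by rw [hpa]
        _ = a⁻¹ * (p⁻¹ * (a * y) * p) := by group
        _ = a⁻¹ * y := by rw [← ea]; group
    have eb' : r⁻¹ * y * r = b⁻¹ * y := by
      have hpa : r⁻¹ * b = b * r⁻¹ := (P_commV (inv_mem hr) hb).symm
      calc r⁻¹ * y * r = b⁻¹ * (b * r⁻¹) * y * r := by group
        _ = b⁻¹ * (r⁻¹ * b) * y * r := by rw [hpa]
        _ = b⁻¹ * (r⁻¹ * (b * y) * r) := by group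
        _ = b⁻¹ * y := by rw [← eb]; group
    have hd : ∀ s ∈ P, ∀ v ∈ V, ∀ w : G, s * (v * w) * s⁻¹ = v * (s * w * s⁻¹) := fun s hs v hv w => by
      calc s * (v * w) * s⁻¹ = (s * v * s⁻¹) * (s * w * s⁻¹) := by group
        _ = _ := by rw [hcv s hs v hv]
    have e : ⁅p, r⁆ * y * ⁅p, r⁆⁻¹ = y := by
      have hab := h.comm _ (inv_mem hb) _ (inv_mem ha)
      calc ⁅p, r⁆ * y * ⁅p, r⁆⁻¹ = p * (r * (p⁻¹ * (r⁻¹ * y * r) * p) * r⁻¹) * p⁻¹ := by
            simp [commutatorElement_def, mul_assoc]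
        _ = p * (r * (p⁻¹ * (b⁻¹ * y) * p⁻¹⁻¹) * r⁻¹) * p⁻¹ := by rw [eb', inv_inv]
        _ = p * (r * (b⁻¹ * (a⁻¹ * y)) * r⁻¹) * p⁻¹ := by
            rw [hd _ (inv_mem hp) _ (inv_mem hb), inv_inv, ea']
        _ = b⁻¹ * (a⁻¹ * (b * (a * y))) := by
            rw [hd r hr _ (inv_mem hb), hd r hr _ (inv_mem ha), eb, hd p hp _ (inv_mem hb),
              hd p hp _ (inv_mem ha), hd p hp _ hb, ea]
        _ = y := by
            rw [← mul_assoc, hab]
            group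
    calc ⁅p, r⁆ * y = ⁅p, r⁆ * y * ⁅p, r⁆⁻¹ * ⁅p, r⁆ := by group
      _ = y * ⁅p, r⁆ := by rw [e]
  refine ⟨hcomm, fun p hp => ?_, ?_⟩
  · refine hC _ (mul_mem hp hp) fun y hy => commutatorElement_eq_one_iff_mul_comm.1 ?_
    have hv := hcomm p hp y hy.1
    rw [show ⁅p * p, y⁆ = p * ⁅p, y⁆ * p⁻¹ * ⁅p, y⁆ by simp [commutatorElement_def, mul_assoc],
      show p * ⁅p, y⁆ * p⁻¹ = ⁅p, y⁆ by rw [← P_commV hp hv, mul_inv_cancel_right], h.sq _ hv]
  intro x hx hc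
  let C : Subgroup G := Subgroup.normalizer (V : Set G) ⊓ Subgroup.centralizer (P : Set G)
  have hCn : ∀ m ∈ Subgroup.normalizer (V : Set G), ∀ c ∈ C, m * c * m⁻¹ ∈ C := fun m hm c hc =>
    Subgroup.mem_inf.2 ⟨mul_mem (mul_mem hm hc.1) (inv_mem hm), Subgroup.mem_centralizer_iff.2 fun p hp => by
      have h1 := Subgroup.mem_centralizer_iff.1 hc.2 _ (h.P_normal (inv_mem hm) hp)
      rw [inv_inv] at h1
      calc p * (m * c * m⁻¹) = m * (m⁻¹ * p * m * c) * m⁻¹ := by group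
        _ = m * (c * (m⁻¹ * p * m)) * m⁻¹ := by rw [h1]
        _ = m * c * m⁻¹ * p := by group⟩
  have hCV : ∀ c ∈ C, ∀ v ∈ V, c * v = v * c := fun c hc v hv =>
    (Subgroup.mem_centralizer_iff.1 hc.2 v (h.V_le_P hv)).symm
  have hCQ : ∀ c ∈ C, c ∈ Q → c ∈ V := fun c hc hcQ =>
    hZ c (mem_PP.2 ⟨hcQ, fun v hv => (hCV c hc v hv).symm⟩) fun p hp =>
      (Subgroup.mem_centralizer_iff.1 hc.2 p hp).symm
  have hCq : ∀ c ∈ C, ∀ q ∈ Q, ⁅c, q⁆ ∈ V := fun c hc q hq => by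
    refine hCQ _ ?_ ?_
    · rw [show ⁅c, q⁆ = c * (q * c⁻¹ * q⁻¹) by simp [commutatorElement_def, mul_assoc]]
      exact mul_mem hc (hCn q (h.Qle hq) _ (inv_mem hc))
    · rw [show ⁅c, q⁆ = (c * q * c⁻¹) * q⁻¹ by simp [commutatorElement_def]]
      exact mul_mem (h.Qn c hc.1 q hq) (inv_mem hq)
  have hC2 : ∀ c ∈ C, c * c ∈ Q := fun c hc => h.Qc _ (mul_mem hc.1 hc.1) fun q hq => by
    refine commutatorElement_eq_one_iff_mul_comm.1 ?_
    rw [show ⁅c * c, q⁆ = c * ⁅c, q⁆ * c⁻¹ * ⁅c, q⁆ by simp [commutatorElement_def, mul_assoc],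
      show c * ⁅c, q⁆ * c⁻¹ = ⁅c, q⁆ by rw [hCV c hc _ (hCq c hc q hq), mul_inv_cancel_right],
      h.sq _ (hCq c hc q hq)]
  have hCp : IsPGroup 2 C := fun c => ⟨2, Subtype.ext (by
    have h1 := h.sq _ (hCQ _ (mul_mem c.2 c.2) (hC2 c c.2))
    rw [SubmonoidClass.coe_pow, show (2 : ℕ) ^ 2 = 2 + 2 by norm_num, pow_add, pow_two]
    exact h1)⟩
  have hxC : x ∈ C := ⟨hx, Subgroup.mem_centralizer_iff.2 fun p hp => (hc p hp).symm⟩
  exact hCQ x hxC (h.Qmax C inf_le_left hCn hCp hxC)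

theorem PP_comm {p r : G} (hp : p ∈ PP V Q) (hr : r ∈ PP V Q) : ⁅p, r⁆ ∈ V := h.hall.1 p hp r hr

theorem PP_sq {p : G} (hp : p ∈ PP V Q) : p * p ∈ V := h.hall.2.1 p hp

theorem cent_P {x : G} (hx : x ∈ Subgroup.normalizer (V : Set G))
    (hc : ∀ p ∈ PP V Q, x * p = p * x) : x ∈ V := h.hall.2.2 x hx hc

/-- Elements stabilizing the series of the centralizing part lie in it. -/
theorem stab {x : G} (hx : x ∈ Subgroup.normalizer (V : Set G)) (hxV : ∀ v ∈ V, v * x = x * v)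
    (hc : ∀ p ∈ PP V Q, ⁅x, p⁆ ∈ V) : x ∈ PP V Q := by
  classical
  haveI : Fact (Nat.Prime 2) := ⟨Nat.prime_two⟩
  let C : Subgroup G :=
    { carrier := {y | y ∈ Subgroup.normalizer (V : Set G) ∧ (∀ v ∈ V, v * y = y * v) ∧
        ∀ p ∈ PP V Q, ⁅y, p⁆ ∈ V}
      one_mem' := ⟨one_mem _, fun v _ => by rw [mul_one, one_mul],
        fun p _ => by rw [commutatorElement_one_left]; exact one_mem _⟩
      mul_mem' := fun {a b} ha hb => ⟨mul_mem ha.1 hb.1,
        fun v hv => ((show Commute v a from ha.2.1 v hv).mul_right (hb.2.1 v hv)).eq, fun p hp => by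
          rw [show ⁅a * b, p⁆ = a * ⁅b, p⁆ * a⁻¹ * ⁅a, p⁆ by simp [commutatorElement_def, mul_assoc]]
          exact mul_mem (h.conj_mem ha.1 (hb.2.2 p hp)) (ha.2.2 p hp)⟩
      inv_mem' := fun {a} ha => ⟨inv_mem ha.1,
        fun v hv => (show Commute v a from ha.2.1 v hv).inv_right.eq, fun p hp => by
          rw [show ⁅a⁻¹, p⁆ = a⁻¹ * ⁅a, p⁆⁻¹ * a⁻¹⁻¹ by simp [commutatorElement_def, mul_assoc]]
          exact h.conj_mem (inv_mem ha.1) (inv_mem (ha.2.2 p hp))⟩ }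
  have hCn : ∀ m ∈ Subgroup.normalizer (V : Set G), ∀ c ∈ C, m * c * m⁻¹ ∈ C := fun m hm c hc =>
    ⟨mul_mem (mul_mem hm hc.1) (inv_mem hm), fun v hv => by
      have h1 := hc.2.1 _ (h.conj_mem (inv_mem hm) hv)
      rw [inv_inv] at h1
      calc v * (m * c * m⁻¹) = m * (m⁻¹ * v * m * c) * m⁻¹ := by group
        _ = m * (c * (m⁻¹ * v * m)) * m⁻¹ := by rw [h1]
        _ = m * c * m⁻¹ * v := by group, fun p hp => by
      rw [show ⁅m * c * m⁻¹, p⁆ = m * ⁅c, m⁻¹ * p * m⁻¹⁻¹⁆ * m⁻¹ by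
        simp [commutatorElement_def, mul_assoc]]
      exact h.conj_mem hm (hc.2.2 _ (h.P_normal (inv_mem hm) hp))⟩
  have hC2 : ∀ c ∈ C, c * c ∈ V := fun c hc => h.cent_P (mul_mem hc.1 hc.1) fun p hp => by
    refine commutatorElement_eq_one_iff_mul_comm.1 ?_
    rw [show ⁅c * c, p⁆ = c * ⁅c, p⁆ * c⁻¹ * ⁅c, p⁆ by simp [commutatorElement_def, mul_assoc],
      show c * ⁅c, p⁆ * c⁻¹ = ⁅c, p⁆ by rw [← hc.2.1 _ (hc.2.2 p hp), mul_inv_cancel_right],
      h.sq _ (hc.2.2 p hp)]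
  have hCp : IsPGroup 2 C := fun c => ⟨2, Subtype.ext (by
    rw [SubmonoidClass.coe_pow, show (2 : ℕ) ^ 2 = 2 + 2 by norm_num, pow_add, pow_two]
    exact h.sq _ (hC2 c c.2))⟩
  exact mem_PP.2 ⟨h.Qmax C (fun c hc => hc.1) hCn hCp ⟨hx, hxV, hc⟩, hxV⟩

end Hy

end Cfsg.Agent.Solv.TIConj
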