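import Cfsg.Agent.Lib.Classical.TransvectionRoot

/-!
A group generated by the two kinds of transvections of a plane, modulo the centralizer of the plane.
-/

open Cfsg Matrix
open scoped MatrixGroups

set_option autoImplicit false
set_option linter.style.haveILetI false
set_option linter.unusedSectionVars false

namespace Cfsg.Agent.Solv.TIConj

universe u
variable {G : Type u} [Group G] {F : Type} [Field F]

theorem upper_mulVec (c : F) (a : Fin 2 → F) :
    (Matrix.SpecialLinearGroup.transvection (show (0 : Fin 2) ≠ 1 by decide) c).1 *ᵥ a =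
      ![a 0 + c * a 1, a 1] := by
  ext i
  fin_cases i <;>
    simp [Matrix.SpecialLinearGroup.transvection_coe, Matrix.transvection, Matrix.mulVec, dotProduct,
      Fin.sum_univ_two]

theorem lower_mulVec (c : F) (a : Fin 2 → F) :
    (Matrix.SpecialLinearGroup.transvection (show (1 : Fin 2) ≠ 0 by decide) c).1 *ᵥ a =
      ![a 0, a 1 + c * a 0] := by
  ext i
  fin_cases i <;>
    simp [Matrix.SpecialLinearGroup.transvection_coe, Matrix.transvection, Matrix.mulVec, dotProduct,
      Fin.sum_univ_two, add_comm]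

theorem iso_SL2 {W P P' : Subgroup G} (e : (Fin 2 → F) → G) (hinj : Function.Injective e)
    (hrange : ∀ w, w ∈ W ↔ ∃ a, e a = w)
    (hP : ∀ p ∈ P, ∃ c : F, ∀ a, p * e a * p⁻¹ = e ![a 0 + c * a 1, a 1])
    (hP' : ∀ p ∈ P', ∃ c : F, ∀ a, p * e a * p⁻¹ = e ![a 0, a 1 + c * a 0])
    (hPc : ∀ c : F, ∃ p ∈ P, ∀ a, p * e a * p⁻¹ = e ![a 0 + c * a 1, a 1])
    (hP'c : ∀ c : F, ∃ p ∈ P', ∀ a, p * e a * p⁻¹ = e ![a 0, a 1 + c * a 0])
    (hN : ((Subgroup.centralizer (W : Set G)).subgroupOf (P ⊔ P')).Normal) :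
    Nonempty (↥(P ⊔ P') ⧸ (Subgroup.centralizer (W : Set G)).subgroupOf (P ⊔ P') ≃*
      Matrix.SpecialLinearGroup (Fin 2) F) := by
  classical
  have huniq : ∀ A B : Matrix.SpecialLinearGroup (Fin 2) F,
      (∀ a, e (A.1 *ᵥ a) = e (B.1 *ᵥ a)) → A = B := by
    intro A B hAB
    apply Subtype.ext
    ext i j
    have h1 := congrFun (hinj (hAB (Pi.single j 1))) i
    simpa [Matrix.mulVec_single_one] using h1
  let R : Subgroup G :=
    { carrier := {x | ∃ A : Matrix.SpecialLinearGroup (Fin 2) F,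
        ∀ a, x * e a * x⁻¹ = e (A.1 *ᵥ a)}
      one_mem' := ⟨1, fun a => by simp⟩
      mul_mem' := by
        rintro x y ⟨A, hA⟩ ⟨B, hB⟩
        refine ⟨A * B, fun a => ?_⟩
        rw [show x * y * e a * (x * y)⁻¹ = x * (y * e a * y⁻¹) * x⁻¹ by group, hB, hA,
          Matrix.SpecialLinearGroup.coe_mul, Matrix.mulVec_mulVec]
      inv_mem' := by
        rintro x ⟨A, hA⟩
        refine ⟨A⁻¹, fun a => ?_⟩
        have h1 := hA ((A⁻¹).1 *ᵥ a)
        rw [Matrix.mulVec_mulVec, ← Matrix.SpecialLinearGroup.coe_mul, mul_inv_cancel,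
          Matrix.SpecialLinearGroup.coe_one, Matrix.one_mulVec] at h1
        rw [← h1]
        group }
  have hle : P ⊔ P' ≤ R := by
    refine sup_le (fun p hp => ?_) fun p hp => ?_
    · obtain ⟨c, hc⟩ := hP p hp
      exact ⟨_, fun a => by rw [upper_mulVec c a]; exact hc a⟩
    · obtain ⟨c, hc⟩ := hP' p hp
      exact ⟨_, fun a => by rw [lower_mulVec c a]; exact hc a⟩
  choose f hf using fun x : ↥(P ⊔ P') => hle x.2
  let φ : ↥(P ⊔ P') →* Matrix.SpecialLinearGroup (Fin 2) F :=
    MonoidHom.mk' f fun x y => huniq _ _ fun a => by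
      rw [← hf (x * y) a, Matrix.SpecialLinearGroup.coe_mul, ← Matrix.mulVec_mulVec, ← hf x,
        ← hf y, Subgroup.coe_mul]
      group
  have hker : φ.ker = (Subgroup.centralizer (W : Set G)).subgroupOf (P ⊔ P') := by
    ext x
    rw [MonoidHom.mem_ker, Subgroup.mem_subgroupOf, Subgroup.mem_centralizer_iff]
    constructor
    · intro hx w hw
      obtain ⟨a, rfl⟩ := (hrange w).1 hw
      have h1 : (x : G) * e a * (x : G)⁻¹ = e a := by
        rw [hf x a, show f x = 1 from hx]; simp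
      calc e a * x = x * e a * (x : G)⁻¹ * x := by rw [h1]
        _ = x * e a := by group
    · intro hx
      refine huniq _ _ fun a => ?_
      show e ((f x).1 *ᵥ a) = _
      rw [← hf x a, Matrix.SpecialLinearGroup.coe_one, Matrix.one_mulVec,
        ← hx _ ((hrange _).2 ⟨a, rfl⟩), mul_inv_cancel_right]
  have hsurj : Function.Surjective φ := by
    rw [← MonoidHom.range_eq_top, eq_top_iff, ← Classical.TransRoot.unipotents_sup]
    refine sup_le (fun x hx => ?_) fun x hx => ?_
    · obtain ⟨c, rfl⟩ := Classical.TransRoot.mem_upperUnipotentSL2.1 hx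
      obtain ⟨p, hp, hpc⟩ := hPc c
      refine ⟨⟨p, Subgroup.mem_sup_left hp⟩, huniq _ _ fun a => ?_⟩
      show e ((f _).1 *ᵥ a) = _
      rw [← hf, upper_mulVec c a]
      exact hpc a
    · obtain ⟨c, rfl⟩ := Classical.TransRoot.mem_lowerUnipotentSL2.1 hx
      obtain ⟨p, hp, hpc⟩ := hP'c c
      refine ⟨⟨p, Subgroup.mem_sup_right hp⟩, huniq _ _ fun a => ?_⟩
      show e ((f _).1 *ᵥ a) = _
      rw [← hf, lower_mulVec c a]
      exact hpc a
  exact ⟨(QuotientGroup.quotientMulEquivOfEq hker.symm).trans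
    (QuotientGroup.quotientKerEquivOfSurjective φ hsurj)⟩

end Cfsg.Agent.Solv.TIConj
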