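import Cfsg.Agent.Lib.Solv.TIConj.Field

/-!
Two additive groups of endomorphisms, the nonzero elements of each inverse to those of the other.
-/

set_option autoImplicit false
set_option linter.style.haveILetI false
set_option linter.unusedSectionVars false

namespace Cfsg.Agent.Solv.TIConj

universe u
variable {X : Type u} [AddCommGroup X] [Finite X]

theorem exists_field (S T : AddSubgroup (AddMonoid.End X)) (hne : ∃ x : X, x ≠ 0)
    (two : ∀ x : X, x + x = 0) (one : 1 ∈ S)
    (hST : ∀ s ∈ S, s ≠ 0 → ∃ t ∈ T, s * t = 1 ∧ t * s = 1)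
    (hTS : ∀ t ∈ T, t ≠ 0 → ∃ s ∈ S, s * t = 1 ∧ t * s = 1)
    (heval : ∀ y : X, y ≠ 0 → ∀ x : X, ∃ s ∈ S, s y = x) :
    ∃ (F : Type) (_ : Field F) (_ : Fintype F) (φ : F →+* AddMonoid.End X),
      Fintype.card F = Nat.card X ∧ (∀ f, f ∈ S ↔ f ∈ Set.range φ) ∧ (∀ f, f ∈ T ↔ f ∈ S) ∧
        ∀ x0 : X, x0 ≠ 0 → Function.Bijective fun a => φ a x0 := by
  classical
  haveI : Finite (AddMonoid.End X) := Finite.of_injective (fun f => (f : X → X)) DFunLike.coe_injective
  obtain ⟨x1, hx1⟩ := hne
  have h10 : (1 : AddMonoid.End X) ≠ 0 := fun e => hx1 (DFunLike.congr_fun e x1)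
  have hua : ∀ s ∈ S, ∀ v ∈ T, s * v * s ∈ S := by
    intro s hs v hv
    by_cases hs0 : s = 0
    · subst hs0; simp
    by_cases hv0 : v = 0
    · subst hv0; simp
    obtain ⟨w, hw, hwv, hvw⟩ := hTS v hv hv0
    by_cases hws : w = s
    · subst hws; rwa [hwv, one_mul]
    obtain ⟨dt, hdt, hd1, hd2⟩ := hST (w - s) (sub_mem hw hs) (sub_ne_zero.2 hws)
    obtain ⟨st, hst, hs1, hs2⟩ := hST s hs hs0
    have he : st + dt = st * w * dt := by
      calc st + dt = st * ((w - s) * dt) + st * s * dt := by rw [hd1, hs2, mul_one, one_mul]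
        _ = st * w * dt := by noncomm_ring
    have he1 : (st + dt) * ((w - s) * v * s) = 1 := by
      calc (st + dt) * ((w - s) * v * s) = st * w * (dt * (w - s)) * v * s := by
            rw [he]; noncomm_ring
        _ = 1 := by rw [hd2, mul_one, mul_assoc st w v, hwv, mul_one, hs2]
    have he0 : st + dt ≠ 0 := fun e => h10 (by rw [← he1, e, zero_mul])
    obtain ⟨r, hr, hr1, -⟩ := hTS (st + dt) (add_mem hst hdt) he0
    have hre : r = (w - s) * v * s := by
      calc r = r * ((st + dt) * ((w - s) * v * s)) := by rw [he1, mul_one]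
        _ = (w - s) * v * s := by rw [← mul_assoc, hr1, one_mul]
    have hsub : s * v * s = s - r := by
      rw [hre, sub_mul, sub_mul, hwv, one_mul, sub_sub_cancel]
    rw [hsub]
    exact sub_mem hs hr
  have hTleS : ∀ v ∈ T, v ∈ S := fun v hv => by simpa using hua 1 one v hv
  have hSleT : ∀ s ∈ S, s ∈ T := by
    intro s hs
    by_cases hs0 : s = 0
    · subst hs0; exact zero_mem _
    obtain ⟨t, ht, h1, h2⟩ := hST s hs hs0
    have ht0 : t ≠ 0 := fun e => h10 (by rw [← h1, e, mul_zero])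
    obtain ⟨t', ht', h3, -⟩ := hST t (hTleS t ht) ht0
    have : t' = s := by rw [← one_mul t', ← h1, mul_assoc, h3, mul_one]
    exact this ▸ ht'
  have D : DivSet S :=
    { nontriv := h10
      two := fun f => by ext x; exact two (f x)
      one := one
      inv := fun s hs hs0 => by
        obtain ⟨t, ht, h⟩ := hST s hs hs0
        exact ⟨t, hTleS t ht, h⟩
      sts := fun s hs t ht => hua s hs t (hSleT t ht) }
  let K : Subring (AddMonoid.End X) :=
    { carrier := S
      mul_mem' := fun ha hb => (D.commute ha hb).2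
      one_mem' := one
      add_mem' := fun ha hb => add_mem ha hb
      zero_mem' := zero_mem S
      neg_mem' := fun ha => neg_mem ha }
  have hK : IsField K :=
    { exists_pair_ne := ⟨1, 0, fun e => h10 (congrArg Subtype.val e)⟩
      mul_comm := fun a b => Subtype.ext (D.commute a.2 b.2).1
      mul_inv_cancel := fun {a} ha => by
        obtain ⟨t, ht, h1, -⟩ := D.inv a a.2 fun e => ha (Subtype.ext e)
        exact ⟨⟨t, ht⟩, Subtype.ext h1⟩ }
  letI : Field K := hK.toField
  haveI : Fintype K := Fintype.ofFinite K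
  have hbij : ∀ x0 : X, x0 ≠ 0 → Function.Bijective fun a : K => (a : AddMonoid.End X) x0 := by
    intro x0 hx0
    refine ⟨fun a b e => ?_, fun x => ?_⟩
    · by_contra hne
      obtain ⟨t, -, -, h2⟩ := D.inv _ (a - b).2 fun e' => hne (sub_eq_zero.1 (Subtype.ext e'))
      refine hx0 ?_
      have h3 : ((a - b : K) : AddMonoid.End X) x0 = 0 := by
        show (a : AddMonoid.End X) x0 - (b : AddMonoid.End X) x0 = 0
        exact sub_eq_zero.2 e
      calc x0 = (t * ((a - b : K) : AddMonoid.End X)) x0 := by rw [h2]; rfl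
        _ = t 0 := congrArg t h3
        _ = 0 := map_zero t
    · obtain ⟨s, hs, e⟩ := heval x0 hx0 x
      exact ⟨⟨s, hs⟩, e⟩
  haveI : CharP K 2 := CharTwo.of_one_ne_zero_of_two_eq_zero one_ne_zero (by
    rw [← one_add_one_eq_two]
    exact Subtype.ext (D.two 1))
  haveI : Fact (Nat.Prime 2) := ⟨Nat.prime_two⟩
  obtain ⟨n, -, hn⟩ := FiniteField.card K 2
  haveI : Fintype (GaloisField 2 n) := Fintype.ofFinite _
  have hcard : Fintype.card (GaloisField 2 n) = Fintype.card K := by
    rw [hn, ← Nat.card_eq_fintype_card, GaloisField.card 2 n n.ne_zero]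
  let e : GaloisField 2 n ≃+* K := FiniteField.ringEquivOfCardEq hcard
  refine ⟨GaloisField 2 n, inferInstance, inferInstance, K.subtype.comp e.toRingHom, ?_, fun f => ?_,
    fun f => ⟨hTleS f, hSleT f⟩, fun x0 hx0 => ?_⟩
  · rw [hcard, ← Nat.card_eq_fintype_card]
    exact Nat.card_eq_of_bijective _ (hbij x1 hx1)
  · refine ⟨fun hf => ⟨e.symm ⟨f, hf⟩, by simp⟩, ?_⟩
    rintro ⟨a, rfl⟩
    exact (e a).2
  · exact (hbij x0 hx0).comp e.bijective

end Cfsg.Agent.Solv.TIConj
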