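import Cfsg.Agent.Lib.Solv.TIConj.Swap
import Cfsg.Agent.Lib.Solv.TIConj.Recip
import Cfsg.Agent.Lib.Solv.TIConj.PlaneSL2

/-!
The group generated by the centralizing parts of two conjugates of a TI subgroup.
-/

open Cfsg
open scoped commutatorElement

set_option autoImplicit false
set_option linter.style.haveILetI false
set_option linter.unusedSectionVars false

namespace Cfsg.Agent.Solv.TIConj

universe u
variable {G : Type u} [Group G] [Finite G]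

/-- Three conjugates and a swap. -/
structure Sw (V Q : Subgroup G) (g k s : G) : Prop extends Tri V Q g k where
  sW : s ∈ Subgroup.normalizer (↑(V ⊔ cj g V) : Set G)
  sV : cj s V = cj g V
  sU : cj s (cj g V) = V

theorem Pr.exists_sw {V Q : Subgroup G} {g : G} (h : Pr V Q g) : ∃ k s, Sw V Q g k s := by
  obtain ⟨k, hk⟩ := h.exists_tri
  obtain ⟨s, h1, h2, h3⟩ := hk.exists_swap
  exact ⟨k, s, ⟨hk, h1, h2, h3⟩⟩

namespace Sw

variable {V Q : Subgroup G} {g k s : G} (h : Sw V Q g k s)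
include h

theorem cj_eq {X : Subgroup G}
    (hX : ∀ m ∈ Subgroup.normalizer (V : Set G), ∀ x ∈ X, m * x * m⁻¹ ∈ X) : cj g X = cj s X := by
  have hm : s⁻¹ * g ∈ Subgroup.normalizer (V : Set G) := normalizer_of_cj_eq (by
    rw [← cj_cj, ← h.sV, cj_cj, inv_mul_cancel, cj_one])
  have hXeq : cj (s⁻¹ * g) X = X := by
    refine Subgroup.eq_of_le_of_card_ge ?_ (card_cj _ X).ge
    rintro _ ⟨x, hx, rfl⟩
    exact hX _ hm x hx
  calc cj g X = cj s (cj (s⁻¹ * g) X) := by rw [cj_cj, mul_inv_cancel_left]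
    _ = cj s X := by rw [hXeq]

theorem V_le_Q' : V ≤ cj g Q := by
  rw [h.cj_eq h.Qn]
  intro v hv
  rw [← h.sU] at hv
  exact mem_cj.2 (h.gQ (mem_cj.1 hv))

theorem P'_eq : cj g (PP V Q) = cj s (PP V Q) :=
  h.cj_eq fun _ hm _ hx => h.toHy.P_normal hm hx

theorem H_norm : PP V Q ⊔ cj g (PP V Q) ≤ Subgroup.normalizer (↑(V ⊔ cj g V) : Set G) := by
  refine sup_le (fun p hp => h.toPr.P_normW hp) fun x hx => ?_
  rw [h.P'_eq, mem_cj] at hx
  have h1 := mul_mem (mul_mem h.sW (h.toPr.P_normW hx)) (inv_mem h.sW)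
  rwa [show s * (s⁻¹ * x * s) * s⁻¹ = x by group] at h1

theorem inv_sV {a : G} (ha : a ∈ cj g V) : s⁻¹ * a * s ∈ V := mem_cj.1 (h.sV ▸ ha)

theorem inv_sU {v : G} (hv : v ∈ V) : s⁻¹ * v * s ∈ cj g V := by
  rw [← h.sU] at hv
  exact mem_cj.1 hv

theorem P'_brkV {x v : G} (hx : x ∈ cj g (PP V Q)) (hv : v ∈ V) : ⁅x, v⁆ ∈ cj g V := by
  rw [h.P'_eq, mem_cj] at hx
  rw [← h.sV, mem_cj, show s⁻¹ * ⁅x, v⁆ * s = ⁅s⁻¹ * x * s, s⁻¹ * v * s⁆ by
    simp [commutatorElement_def, mul_assoc]]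
  exact h.toHy.PP_comm hx (h.toPr.U_le_P (h.inv_sU hv))

theorem P'_trans {v a : G} (hv : v ∈ V) (hv1 : v ≠ 1) (ha : a ∈ cj g V) :
    ∃ x ∈ cj g (PP V Q), ⁅x, v⁆ = a := by
  have hu := h.inv_sU hv
  have hu1 : s⁻¹ * v * s ≠ 1 := fun e => hv1 (by
    calc v = s * (s⁻¹ * v * s) * s⁻¹ := by group
      _ = 1 := by rw [e]; group)
  obtain ⟨b, hb, e⟩ := h.surj_right hu hu1 (h.inv_sV ha)
  refine ⟨s * b * s⁻¹, by rw [h.P'_eq]; exact conj_mem_cj (h.kP b hb), ?_⟩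
  calc ⁅s * b * s⁻¹, v⁆ = s * ⁅b, s⁻¹ * v * s⁆ * s⁻¹ := by
        simp [commutatorElement_def, mul_assoc]
    _ = a := by rw [h.toPr.brk_comm (h.kP b hb) (h.toPr.U_le_P hu), e]; group

theorem trans_V {v w : G} (hv : v ∈ V) (hv1 : v ≠ 1) (hw : w ∈ V) (hw1 : w ≠ 1) :
    ∃ m ∈ Subgroup.normalizer (V : Set G), m * v * m⁻¹ = w := by
  obtain ⟨a, ha, ha1⟩ := h.U_ne
  obtain ⟨x, hx, ex⟩ := h.P'_trans hv hv1 ha
  obtain ⟨y, hy, ey⟩ := h.P'_trans hw hw1 ha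
  obtain ⟨b, hb, eb⟩ := h.surj_right ha ha1 (mul_mem hw hv)
  have hbv : b * v * b⁻¹ = v := by rw [← Hy.P_commV (h.kP b hb) hv, mul_inv_cancel_right]
  have e1 : x * v * x⁻¹ = a * v := by rw [← ex]; simp [commutatorElement_def]
  have e2 : b * a * b⁻¹ = w * v * a := by
    rw [(h.toPr.conj_U (h.kP b hb) ha).1, h.toPr.brk_comm (h.kP b hb) (h.toPr.U_le_P ha), eb]
  have e3 : y * w * y⁻¹ = a * w := by rw [← ey]; simp [commutatorElement_def]
  have e : y⁻¹ * b * x * v * (y⁻¹ * b * x)⁻¹ = w := by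
    have e4 : w * v * a * v = a * w := by
      calc w * v * a * v = w * (v * a) * v := by group
        _ = w * (a * v) * v := by rw [h.toPr.comm_UV hv ha]
        _ = (w * a) * (v * v) := by group
        _ = a * w := by rw [h.sq v hv, mul_one, h.toPr.comm_UV hw ha]
    calc y⁻¹ * b * x * v * (y⁻¹ * b * x)⁻¹ = y⁻¹ * (b * (x * v * x⁻¹) * b⁻¹) * y := by group
      _ = y⁻¹ * ((b * a * b⁻¹) * (b * v * b⁻¹)) * y := by rw [e1]; group
      _ = y⁻¹ * (y * w * y⁻¹) * y := by rw [e2, hbv, e4, e3]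
      _ = w := by group
  refine ⟨_, normalizer_of_cj_eq ?_, e⟩
  have h1 := h.toHy.ti' (y := 1) hw1 (e ▸ conj_mem_cj hv) (by rwa [cj_one])
  rwa [cj_one] at h1

theorem Q_eq : PP V Q = Q := by
  refine le_antisymm inf_le_left fun q hq => mem_PP.2 ⟨hq, fun v hv => ?_⟩
  obtain ⟨v0, hv0, hv01⟩ := h.V_ne
  obtain ⟨z, hz, hz1, hzc⟩ := exists_central_mod (A := ⊥) h.Qp h.toHy.V_le
    (fun p hp x hx => h.toHy.conj_mem (h.Qle hp) hx) ⟨v0, hv0, fun e => hv01 (Subgroup.mem_bot.1 e)⟩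
  by_cases hv1 : v = 1
  · subst hv1; simp
  obtain ⟨m, hm, rfl⟩ := h.trans_V hz (fun e => hz1 (Subgroup.mem_bot.2 e)) hv hv1
  have h1 := h.Qn m⁻¹ (inv_mem hm) q hq
  rw [inv_inv] at h1
  have h2 := commutatorElement_eq_one_iff_mul_comm.1 (Subgroup.mem_bot.1 (hzc _ h1))
  calc m * z * m⁻¹ * q = m * (z * (m⁻¹ * q * m)) * m⁻¹ := by group
    _ = m * (m⁻¹ * q * m * z) * m⁻¹ := by rw [h2]
    _ = q * (m * z * m⁻¹) := by group

theorem centre_eq : (Subgroup.center Q).map Q.subtype = V := by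
  refine le_antisymm ?_ fun v hv => ?_
  · rintro _ ⟨z, hz, rfl⟩
    refine h.toHy.cent_P (h.Qle z.2) fun p hp => ?_
    exact (congrArg Subtype.val (Subgroup.mem_center_iff.1 hz ⟨p, (mem_PP.1 hp).1⟩)).symm
  · refine ⟨⟨v, h.toHy.V_le hv⟩, Subgroup.mem_center_iff.2 fun q => Subtype.ext ?_, rfl⟩
    exact (Hy.P_commV (h.Q_eq.symm ▸ q.2 : (q : G) ∈ PP V Q) hv).symm

theorem commutator_eq : (commutator Q).map Q.subtype = V := by
  refine le_antisymm ?_ fun v hv => ?_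
  · rw [commutator_def, Subgroup.map_commutator, Subgroup.commutator_le]
    rintro _ ⟨a, -, rfl⟩ _ ⟨b, -, rfl⟩
    exact h.toHy.PP_comm (h.Q_eq.symm ▸ a.2) (h.Q_eq.symm ▸ b.2)
  · obtain ⟨b, hb, hb1⟩ := h.k_ne
    obtain ⟨a, ha, rfl⟩ := h.surj_left hb hb1 hv
    exact ⟨⁅(⟨a, h.gQ ha⟩ : Q), ⟨b, (mem_PP.1 (h.kP b hb)).1⟩⁆,
      Subgroup.commutator_mem_commutator (Subgroup.mem_top _) (Subgroup.mem_top _), rfl⟩

theorem frattini_eq : (frattini Q).map Q.subtype = V := by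
  haveI : Fact (Nat.Prime 2) := ⟨Nat.prime_two⟩
  refine le_antisymm ?_ (h.commutator_eq ▸ Subgroup.map_mono (commutator_le_frattini_pgroup h.Qp))
  rw [Subgroup.map_le_iff_le_comap]
  haveI : (V.comap Q.subtype).Normal := ⟨fun v hv q => h.toHy.conj_mem (h.Qle q.2) hv⟩
  refine frattini_le (p := 2) _ (fun a b => ?_) fun a => ?_
  · exact h.toHy.PP_comm (h.Q_eq.symm ▸ a.2) (h.Q_eq.symm ▸ b.2)
  · show ((a ^ 2 : Q) : G) ∈ V
    rw [SubmonoidClass.coe_pow, pow_two]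
    exact h.toHy.PP_sq (h.Q_eq.symm ▸ a.2)

theorem quot_SL2 (hN : ((Subgroup.centralizer (↑(V ⊔ cj g V) : Set G)).subgroupOf
      (PP V Q ⊔ cj g (PP V Q))).Normal) :
    ∃ (F : Type) (_ : Field F) (_ : Fintype F), Fintype.card F = Nat.card V ∧
      Nonempty (↥(PP V Q ⊔ cj g (PP V Q)) ⧸
        (Subgroup.centralizer (↑(V ⊔ cj g V) : Set G)).subgroupOf (PP V Q ⊔ cj g (PP V Q)) ≃*
          Matrix.SpecialLinearGroup (Fin 2) F) := by
  classical
  letI : CommGroup V :=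
    { (inferInstance : Group V) with mul_comm := fun a b => Subtype.ext (h.comm a a.2 b b.2) }
  obtain ⟨b0, hb0, hb01⟩ := h.k_ne
  choose ι hιU hι using fun y : Additive V => h.surj_left hb0 hb01 (y.toMul).2
  have hιP : ∀ y, ι y ∈ PP V Q := fun y => h.toPr.U_le_P (hιU y)
  have hιeq : ∀ a ∈ cj g V, ∀ y : Additive V, ⁅a, b0⁆ = (y.toMul : G) → ι y = a := fun a ha y e =>
    h.inj_left (hιU y) ha hb0 hb01 (by rw [hι, e])
  have hι0 : ι 0 = 1 := hιeq 1 (one_mem _) 0 (by rw [commutatorElement_one_left]; rfl)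
  have hιadd : ∀ y z, ι (y + z) = ι y * ι z := fun y z => hιeq _ (mul_mem (hιU y) (hιU z)) _ (by
    rw [h.toPr.brk_mul_left (hιP y) (hιP z) (h.kP b0 hb0), hι, hι]; rfl)
  have hιinj : Function.Injective ι := fun y z e => Subtype.ext ((hι y).symm.trans ((e ▸ hι z)))
  have hιne : ∀ y, y ≠ 0 → ι y ≠ 1 := fun y hy e => hy (hιinj (by rw [e, hι0]))
  have htwo : ∀ x : Additive V, x + x = 0 := fun x => Subtype.ext (h.sq _ (x.toMul).2)
  let mk : ∀ v ∈ V, Additive V := fun v hv => Additive.ofMul (⟨v, hv⟩ : V)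
  let S : AddSubgroup (AddMonoid.End (Additive V)) :=
    { carrier := {f | ∃ p ∈ PP V Q, ∀ y, ((f y).toMul : G) = ⁅p, ι y⁆}
      zero_mem' := ⟨1, one_mem _, fun y => by rw [commutatorElement_one_left]; rfl⟩
      add_mem' := by
        rintro f f' ⟨p, hp, hf⟩ ⟨q, hq, hf'⟩
        refine ⟨p * q, mul_mem hp hq, fun y => ?_⟩
        rw [h.toPr.brk_mul_left hp hq (hιP y), ← hf, ← hf']
        rfl
      neg_mem' := by
        rintro f ⟨p, hp, hf⟩
        refine ⟨p, hp, fun y => ?_⟩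
        rw [show (-f) y = f y from neg_eq_of_add_eq_zero_right (htwo (f y))]
        exact hf y }
  let T : AddSubgroup (AddMonoid.End (Additive V)) :=
    { carrier := {f | ∃ x ∈ cj g (PP V Q), ∀ y, ι (f y) = ⁅x, (y.toMul : G)⁆}
      zero_mem' := ⟨1, one_mem _, fun y => by rw [commutatorElement_one_left]; exact hι0⟩
      add_mem' := by
        rintro f f' ⟨p, hp, hf⟩ ⟨q, hq, hf'⟩
        refine ⟨p * q, mul_mem hp hq, fun y => ?_⟩
        have hq' := h.P'_brkV hq (y.toMul).2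
        rw [show ⁅p * q, (y.toMul : G)⁆ = p * ⁅q, (y.toMul : G)⁆ * p⁻¹ * ⁅p, (y.toMul : G)⁆ by
            simp [commutatorElement_def, mul_assoc],
          ← h.toPr.P'_comm hp hq', mul_inv_cancel_right,
          h.toHy.comm_cj hq' (h.P'_brkV hp (y.toMul).2), ← hf, ← hf', ← hιadd]
        rfl
      neg_mem' := by
        rintro f ⟨p, hp, hf⟩
        refine ⟨p, hp, fun y => ?_⟩
        rw [show (-f) y = f y from neg_eq_of_add_eq_zero_right (htwo (f y))]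
        exact hf y }
  -- every element gives an endomorphism
  have hSp : ∀ p ∈ PP V Q, ∃ f ∈ S, ∀ y, ((f y).toMul : G) = ⁅p, ι y⁆ := by
    intro p hp
    let f : AddMonoid.End (Additive V) :=
      { toFun := fun y => mk _ (h.toHy.PP_comm hp (hιP y))
        map_zero' := Subtype.ext (show ⁅p, ι 0⁆ = 1 by rw [hι0, commutatorElement_one_right])
        map_add' := fun y z => Subtype.ext (show ⁅p, ι (y + z)⁆ = ⁅p, ι y⁆ * ⁅p, ι z⁆ by
          rw [hιadd, h.toPr.brk_mul_right hp (hιP y) (hιP z)]) }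
    exact ⟨f, ⟨p, hp, fun y => rfl⟩, fun y => rfl⟩
  have hTp : ∀ x ∈ cj g (PP V Q), ∃ f ∈ T, ∀ y, ι (f y) = ⁅x, (y.toMul : G)⁆ := by
    intro x hx
    let F0 : Additive V → Additive V := fun y =>
      mk _ (h.toHy.PP_comm (h.toPr.U_le_P (h.P'_brkV hx (y.toMul).2)) (h.kP b0 hb0))
    have hF0 : ∀ y, ι (F0 y) = ⁅x, (y.toMul : G)⁆ := fun y => hιeq _ (h.P'_brkV hx (y.toMul).2) _ rfl
    let f : AddMonoid.End (Additive V) :=
      { toFun := F0
        map_zero' := hιinj (by rw [hF0, hι0]; exact commutatorElement_one_right x)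
        map_add' := fun y z => hιinj (by
          rw [hιadd, hF0, hF0, hF0]
          show ⁅x, (y.toMul : G) * (z.toMul : G)⁆ = _
          rw [show ⁅x, (y.toMul : G) * (z.toMul : G)⁆ = ⁅x, (y.toMul : G)⁆ *
              ((y.toMul : G) * ⁅x, (z.toMul : G)⁆ * (y.toMul : G)⁻¹) by
              simp [commutatorElement_def, mul_assoc],
            h.toPr.comm_UV (y.toMul).2 (h.P'_brkV hx (z.toMul).2), mul_inv_cancel_right]) }
    exact ⟨f, ⟨x, hx, hF0⟩, hF0⟩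
  have hevalS : ∀ y : Additive V, y ≠ 0 → ∀ x, ∃ f ∈ S, f y = x := by
    intro y hy x
    obtain ⟨b, hb, e⟩ := h.surj_right (hιU y) (hιne y hy) (x.toMul).2
    obtain ⟨f, hf, hfy⟩ := hSp b (h.kP b hb)
    exact ⟨f, hf, Additive.toMul.injective (Subtype.ext (by rw [hfy, h.toPr.brk_comm (h.kP b hb) (hιP y)]; exact e))⟩
  have hevalT : ∀ x : Additive V, x ≠ 0 → ∀ y, ∃ f ∈ T, f x = y := by
    intro x hx y
    obtain ⟨z, hz, e⟩ := h.P'_trans (x.toMul).2 (fun e => hx (Subtype.ext e)) (hιU y)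
    obtain ⟨f, hf, hfy⟩ := hTp z hz
    exact ⟨f, hf, hιinj (by rw [hfy, e])⟩
  have hone : 1 ∈ S := ⟨b0, h.kP b0 hb0, fun y => by
    rw [h.toPr.brk_comm (h.kP b0 hb0) (hιP y), hι]; rfl⟩
  -- reciprocity
  have hrec : ∀ f ∈ S, ∀ f' ∈ T, ∀ y : Additive V, y ≠ 0 → f' (f y) = y → f * f' = 1 ∧ f' * f = 1 := by
    rintro f ⟨p, hp, hf⟩ f' ⟨x, hx, hf'⟩ y hy e
    have e1 : ∀ z, ((f z).toMul : G) * ι z = p * ι z * p⁻¹ := fun z => by
      rw [(h.toPr.conj_U hp (hιU z)).1, hf]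
    have e2 : ∀ z : Additive V, (z.toMul : G) * ι (f' z) = x * (z.toMul : G) * x⁻¹ := fun z => by
      rw [h.toPr.comm_UV (z.toMul).2 (hιU _), hf']
      simp [commutatorElement_def]
    have hU1 : ((f y).toMul : G) * ι y ∈ cj (p * g) V := by
      rw [e1, ← cj_cj]; exact conj_mem_cj (hιU y)
    have hU2 : ((f y).toMul : G) * ι y ∈ cj x V := by
      have h1 := e2 (f y)
      rw [e] at h1
      rw [h1]
      exact conj_mem_cj ((f y).toMul).2
    have hne : ((f y).toMul : G) * ι y ≠ 1 := fun e0 => hιne y hy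
      (h.toPr.decomp_unique ((f y).toMul).2 (one_mem _) (hιU y) (one_mem _) (by rw [e0, one_mul])).2
    have hUU := h.toHy.ti' hne hU1 hU2
    constructor
    · refine AddMonoidHom.ext fun z => ?_
      have h1 : (z.toMul : G) * ι (f' z) ∈ cj (p * g) V := by
        rw [hUU, e2]; exact conj_mem_cj (z.toMul).2
      rw [← cj_cj, mem_cj] at h1
      set a := p⁻¹ * ((z.toMul : G) * ι (f' z)) * p with ha
      obtain ⟨w, hw⟩ : ∃ w : Additive V, ι w = a :=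
        ⟨mk _ (h.toHy.PP_comm (h.toPr.U_le_P h1) (h.kP b0 hb0)), hιeq a h1 _ rfl⟩
      have h3 : ((f w).toMul : G) * ι w = (z.toMul : G) * ι (f' z) := by
        rw [e1, hw, ha]; group
      obtain ⟨h4, h5⟩ := h.toPr.decomp_unique ((f w).toMul).2 (z.toMul).2 (hιU _) (hιU _) h3
      show f (f' z) = z
      rw [← hιinj h5]
      exact Subtype.ext h4
    · refine AddMonoidHom.ext fun z => ?_
      have h1 : ((f z).toMul : G) * ι z ∈ cj x V := by
        rw [← hUU, e1, ← cj_cj]; exact conj_mem_cj (hιU z)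
      obtain ⟨w, hw⟩ : ∃ w : Additive V, (w.toMul : G) = x⁻¹ * (((f z).toMul : G) * ι z) * x :=
        ⟨mk _ (mem_cj.1 h1), rfl⟩
      have h3 : (w.toMul : G) * ι (f' w) = ((f z).toMul : G) * ι z := by
        rw [e2, hw]; group
      obtain ⟨h4, h5⟩ := h.toPr.decomp_unique (w.toMul).2 ((f z).toMul).2 (hιU _) (hιU _) h3
      show f' (f z) = z
      rw [show f z = w from (Subtype.ext h4).symm]
      exact hιinj h5
  have hne : ∃ x : Additive V, x ≠ 0 := by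
    obtain ⟨v, hv, hv1⟩ := h.V_ne
    exact ⟨mk v hv, fun e => hv1 (congrArg Subtype.val e)⟩
  obtain ⟨F, iF, iFF, φ, hcard, hS, hT, hbij⟩ := exists_field S T hne htwo hone
    (fun f hf hf0 => by
      obtain ⟨y, hy⟩ : ∃ y, f y ≠ 0 := by
        by_contra hall; push Not at hall; exact hf0 (AddMonoidHom.ext hall)
      obtain ⟨f', hf', e⟩ := hevalT (f y) hy y
      exact ⟨f', hf', hrec f hf f' hf' y (fun e0 => hy (by rw [e0, map_zero])) e⟩)
    (fun f' hf' hf0 => by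
      obtain ⟨x, hx⟩ : ∃ x, f' x ≠ 0 := by
        by_contra hall; push Not at hall; exact hf0 (AddMonoidHom.ext hall)
      obtain ⟨f, hf, e⟩ := hevalS (f' x) hx x
      exact ⟨f, hf, hrec f hf f' hf' (f' x) hx (by rw [e])⟩)
    hevalS
  refine ⟨F, iF, iFF, hcard.trans (Nat.card_congr Additive.toMul), ?_⟩
  obtain ⟨x0, hx0⟩ := hne
  have hb := hbij x0 hx0
  have hφadd : ∀ a b, φ (a + b) x0 = φ a x0 + φ b x0 := fun a b => by rw [map_add]; rfl
  have hφmul : ∀ a b, φ (a * b) x0 = φ a (φ b x0) := fun a b => by rw [map_mul]; rfl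
  refine iso_SL2 (fun a => ((φ (a 0) x0).toMul : G) * ι (φ (a 1) x0)) ?_ ?_ ?_ ?_ ?_ ?_ hN
  · intro a b e
    obtain ⟨h1, h2⟩ := h.toPr.decomp_unique ((φ (a 0) x0).toMul).2 ((φ (b 0) x0).toMul).2
      (hιU _) (hιU _) e
    ext i
    fin_cases i
    · exact hb.1 (Subtype.ext h1)
    · exact hb.1 (hιinj h2)
  · intro w
    rw [h.toPr.mem_W]
    refine ⟨?_, ?_⟩
    · rintro ⟨v, hv, a, ha, rfl⟩
      obtain ⟨c, hc⟩ := hb.2 (mk v hv)
      obtain ⟨d, hd⟩ := hb.2 (mk _ (h.toHy.PP_comm (h.toPr.U_le_P ha) (h.kP b0 hb0)))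
      refine ⟨![c, d], ?_⟩
      show ((φ c x0).toMul : G) * ι (φ d x0) = v * a
      rw [show φ c x0 = mk v hv from hc, show φ d x0 = _ from hd, hιeq a ha _ rfl]
      rfl
    · rintro ⟨a, rfl⟩
      exact ⟨_, ((φ (a 0) x0).toMul).2, _, hιU _, rfl⟩
  all_goals
    have hup : ∀ p ∈ PP V Q, ∀ c : F, (∀ y, (((φ c) y).toMul : G) = ⁅p, ι y⁆) → ∀ a : Fin 2 → F,
        p * (((φ (a 0) x0).toMul : G) * ι (φ (a 1) x0)) * p⁻¹ =
          ((φ (a 0 + c * a 1) x0).toMul : G) * ι (φ (a 1) x0) := by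
      intro p hp c hc a
      have hfix : p * ((φ (a 0) x0).toMul : G) * p⁻¹ = ((φ (a 0) x0).toMul : G) := by
        rw [← Hy.P_commV hp ((φ (a 0) x0).toMul).2, mul_inv_cancel_right]
      rw [hφadd, hφmul]
      show _ = ((φ (a 0) x0).toMul : G) * ((φ c (φ (a 1) x0)).toMul : G) * ι (φ (a 1) x0)
      rw [hc, mul_assoc ((φ (a 0) x0).toMul : G), ← (h.toPr.conj_U hp (hιU _)).1]
      calc _ = (p * ((φ (a 0) x0).toMul : G) * p⁻¹) * (p * ι (φ (a 1) x0) * p⁻¹) := by group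
        _ = _ := by rw [hfix]
    have hlow : ∀ p ∈ cj g (PP V Q), ∀ c : F, (∀ y, ι ((φ c) y) = ⁅p, (y.toMul : G)⁆) →
        ∀ a : Fin 2 → F, p * (((φ (a 0) x0).toMul : G) * ι (φ (a 1) x0)) * p⁻¹ =
          ((φ (a 0) x0).toMul : G) * ι (φ (a 1 + c * a 0) x0) := by
      intro p hp c hc a
      have hfix : p * ι (φ (a 1) x0) * p⁻¹ = ι (φ (a 1) x0) := by
        rw [← h.toPr.P'_comm hp (hιU _), mul_inv_cancel_right]
      rw [hφadd, hφmul, hιadd, hc, h.toHy.comm_cj (hιU _) (h.P'_brkV hp ((φ (a 0) x0).toMul).2),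
        ← mul_assoc ((φ (a 0) x0).toMul : G), h.toPr.comm_UV ((φ (a 0) x0).toMul).2 (h.P'_brkV hp ((φ (a 0) x0).toMul).2)]
      calc _ = (p * ((φ (a 0) x0).toMul : G) * p⁻¹) * (p * ι (φ (a 1) x0) * p⁻¹) := by group
        _ = _ := by rw [hfix]; simp [commutatorElement_def]
  · intro p hp
    obtain ⟨f, hf, hfy⟩ := hSp p hp
    obtain ⟨c, rfl⟩ := (hS f).1 hf
    exact ⟨c, hup p hp c hfy⟩
  · intro p hp
    obtain ⟨f, hf, hfy⟩ := hTp p hp
    obtain ⟨c, rfl⟩ := (hS f).1 ((hT f).1 hf)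
    exact ⟨c, hlow p hp c hfy⟩
  · intro c
    obtain ⟨p, hp, hc⟩ := (hS (φ c)).2 ⟨c, rfl⟩
    exact ⟨p, hp, hup p hp c hc⟩
  · intro c
    obtain ⟨p, hp, hc⟩ := (hT (φ c)).2 ((hS (φ c)).2 ⟨c, rfl⟩)
    exact ⟨p, hp, hlow p hp c hc⟩

end Sw

end Cfsg.Agent.Solv.TIConj
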