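import Cfsg.Agent.Lib.Solv.TIConj.Local

/-!
A pair of conjugates of a TI subgroup, the second inside the two-core of the normalizer of the first:
the geometry of the group they generate.
-/

open Cfsg
open scoped commutatorElement

set_option autoImplicit false
set_option linter.style.haveILetI false
set_option linter.unusedSectionVars false

namespace Cfsg.Agent.Solv.TIConj

universe u
variable {G : Type u} [Group G] [Finite G]

theorem norm_of_comm {H : Subgroup G} {x : G} (hc : ∀ a ∈ H, a * x = x * a) :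
    x ∈ Subgroup.normalizer (H : Set G) :=
  Subgroup.mem_normalizer_iff.2 fun a =>
    ⟨fun ha => by rwa [← hc a ha, mul_inv_cancel_right], fun ha => by
      have e : a = x * a * x⁻¹ := by
        have h1 := hc _ ha
        calc a = x⁻¹ * (x * a * x⁻¹ * x) := by group
          _ = x⁻¹ * (x * (x * a * x⁻¹)) := by rw [h1]
          _ = x * a * x⁻¹ := by group
      rw [e]; exact ha⟩

/-- Two conjugates, the second inside the core. -/
structure Pr (V Q : Subgroup G) (g : G) : Prop extends Hy V Q where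
  gne : cj g V ≠ V
  gQ : cj g V ≤ Q

namespace Pr

variable {V Q : Subgroup G} {g : G} (h : Pr V Q g)
include h

theorem disj {x y a : G} (hne : cj x V ≠ cj y V) (hx : a ∈ cj x V) (hy : a ∈ cj y V) : a = 1 := by
  by_contra ha
  exact hne (h.toHy.ti' ha hx hy)

theorem disjV {x a : G} (hne : cj x V ≠ V) (ha : a ∈ V) (hx : a ∈ cj x V) : a = 1 :=
  h.disj (y := 1) (by rwa [cj_one]) hx (by rwa [cj_one])

theorem V_ne : ∃ v ∈ V, v ≠ 1 := by
  by_contra hno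
  push Not at hno
  have hV : V = ⊥ := (Subgroup.eq_bot_iff_forall _).2 hno
  exact h.gne (by rw [hV, cj, Subgroup.map_bot])

theorem U_ne : ∃ u ∈ cj g V, u ≠ 1 := by
  obtain ⟨v, hv, hv1⟩ := h.V_ne
  exact ⟨g * v * g⁻¹, conj_mem_cj hv, fun e => hv1 (conj_eq_one_iff.1 e)⟩

theorem cj_le_P {x : G} (hQ : cj x V ≤ Q) {a : G} (ha : a ∈ cj x V) : a ∈ PP V Q := by
  refine mem_PP.2 ⟨hQ ha, fun v hv => ?_⟩
  by_cases e : cj x V = V
  · exact h.comm v hv a (e ▸ ha)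
  · exact h.toHy.commute_of_le (x := 1) (y := x) (by rwa [cj_one, ne_comm])
      (fun b hb => by rw [cj_one]; exact h.Qle (hQ hb)) v (by rwa [cj_one]) a ha

theorem U_le_P {a : G} (ha : a ∈ cj g V) : a ∈ PP V Q := h.cj_le_P h.gQ ha

theorem brk_comm {a c : G} (ha : a ∈ PP V Q) (hc : c ∈ PP V Q) : ⁅a, c⁆ = ⁅c, a⁆ := by
  rw [← commutatorElement_inv c a, h.toHy.inv_eq (h.toHy.PP_comm hc ha)]

theorem brk_mul_left {a b c : G} (ha : a ∈ PP V Q) (hb : b ∈ PP V Q) (hc : c ∈ PP V Q) :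
    ⁅a * b, c⁆ = ⁅a, c⁆ * ⁅b, c⁆ := by
  have hv := h.toHy.PP_comm hb hc
  rw [show ⁅a * b, c⁆ = a * ⁅b, c⁆ * a⁻¹ * ⁅a, c⁆ by simp [commutatorElement_def, mul_assoc],
    ← Hy.P_commV ha hv, mul_inv_cancel_right]
  exact h.comm _ hv _ (h.toHy.PP_comm ha hc)

theorem brk_mul_right {a b c : G} (ha : a ∈ PP V Q) (hb : b ∈ PP V Q) (hc : c ∈ PP V Q) :
    ⁅a, b * c⁆ = ⁅a, b⁆ * ⁅a, c⁆ := by
  rw [h.brk_comm ha (mul_mem hb hc), h.brk_mul_left hb hc ha, h.brk_comm hb ha, h.brk_comm hc ha]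

theorem comm_UV {v a : G} (hv : v ∈ V) (ha : a ∈ cj g V) : v * a = a * v :=
  Hy.P_commV (h.U_le_P ha) hv

theorem mem_W {w : G} : w ∈ V ⊔ cj g V ↔ ∃ v ∈ V, ∃ a ∈ cj g V, w = v * a := by
  constructor
  · intro hw
    rw [Subgroup.sup_eq_closure] at hw
    induction hw using Subgroup.closure_induction with
    | mem x hx =>
      rcases hx with hx | hx
      · exact ⟨x, hx, 1, one_mem _, (mul_one x).symm⟩
      · exact ⟨1, one_mem _, x, hx, (one_mul x).symm⟩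
    | one => exact ⟨1, one_mem _, 1, one_mem _, (mul_one _).symm⟩
    | mul x y _ _ hx hy =>
      obtain ⟨v, hv, a, ha, rfl⟩ := hx
      obtain ⟨v', hv', a', ha', rfl⟩ := hy
      exact ⟨v * v', mul_mem hv hv', a * a', mul_mem ha ha',
        (show Commute a v' from (h.comm_UV hv' ha).symm).mul_mul_mul_comm v a'⟩
    | inv x _ hx =>
      obtain ⟨v, hv, a, ha, rfl⟩ := hx
      refine ⟨v⁻¹, inv_mem hv, a⁻¹, inv_mem ha, ?_⟩
      rw [mul_inv_rev]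
      exact (show Commute v a from h.comm_UV hv ha).inv_inv.symm.eq
  · rintro ⟨v, hv, a, ha, rfl⟩
    exact mul_mem (Subgroup.mem_sup_left hv) (Subgroup.mem_sup_right ha)

theorem W_le_P {w : G} (hw : w ∈ V ⊔ cj g V) : w ∈ PP V Q := by
  obtain ⟨v, hv, a, ha, rfl⟩ := h.mem_W.1 hw
  exact mul_mem (h.toHy.V_le_P hv) (h.U_le_P ha)

theorem W_comm_U {w : G} (hw : w ∈ V ⊔ cj g V) {a : G} (ha : a ∈ cj g V) : a * w = w * a := by
  obtain ⟨v, hv, c, hc, rfl⟩ := h.mem_W.1 hw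
  exact ((show Commute a v from (h.comm_UV hv ha).symm).mul_right
    (show Commute a c from h.toHy.comm_cj ha hc)).eq

theorem W_comm {w z : G} (hw : w ∈ V ⊔ cj g V) (hz : z ∈ V ⊔ cj g V) : w * z = z * w := by
  obtain ⟨v, hv, c, hc, rfl⟩ := h.mem_W.1 hw
  exact ((show Commute v z from Hy.P_commV (h.W_le_P hz) hv).mul_left
    (show Commute c z from h.W_comm_U hz hc)).eq

theorem W_sq {w : G} (hw : w ∈ V ⊔ cj g V) : w * w = 1 := by
  obtain ⟨v, hv, c, hc, rfl⟩ := h.mem_W.1 hw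
  rw [(show Commute c v from (h.comm_UV hv hc).symm).mul_mul_mul_comm, h.sq v hv,
    h.toHy.sq_cj hc, one_mul]

theorem decomp_unique {v v' a a' : G} (hv : v ∈ V) (hv' : v' ∈ V) (ha : a ∈ cj g V)
    (ha' : a' ∈ cj g V) (e : v * a = v' * a') : v = v' ∧ a = a' := by
  have h1 : v'⁻¹ * v = a' * a⁻¹ := by
    calc v'⁻¹ * v = v'⁻¹ * (v * a) * a⁻¹ := by group
      _ = a' * a⁻¹ := by rw [e]; group
  have h2 := h.disjV h.gne (mul_mem (inv_mem hv') hv) (h1 ▸ mul_mem ha' (inv_mem ha))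
  refine ⟨(inv_mul_eq_one.1 h2).symm, (mul_inv_eq_one.1 (h1 ▸ h2)).symm⟩

theorem norm_W {x : G} (hV : ∀ v ∈ V, x * v * x⁻¹ ∈ V ⊔ cj g V)
    (hU : ∀ a ∈ cj g V, x * a * x⁻¹ ∈ V ⊔ cj g V) :
    x ∈ Subgroup.normalizer (↑(V ⊔ cj g V) : Set G) := by
  refine normalizer_of_cj_eq (Subgroup.eq_of_le_of_card_ge ?_ (card_cj x _).ge)
  rintro _ ⟨w, hw, rfl⟩
  obtain ⟨v, hv, a, ha, rfl⟩ := h.mem_W.1 hw
  show x * (v * a) * x⁻¹ ∈ V ⊔ cj g V
  rw [show x * (v * a) * x⁻¹ = (x * v * x⁻¹) * (x * a * x⁻¹) by group]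
  exact mul_mem (hV v hv) (hU a ha)

theorem conj_U {p a : G} (hp : p ∈ PP V Q) (ha : a ∈ cj g V) :
    p * a * p⁻¹ = ⁅p, a⁆ * a ∧ ⁅p, a⁆ ∈ V :=
  ⟨by simp [commutatorElement_def], h.toHy.PP_comm hp (h.U_le_P ha)⟩

theorem P_normW {p : G} (hp : p ∈ PP V Q) :
    p ∈ Subgroup.normalizer (↑(V ⊔ cj g V) : Set G) := by
  refine h.norm_W (fun v hv => Subgroup.mem_sup_left (h.toHy.conj_mem (h.toHy.P_le hp) hv)) fun a ha => ?_
  rw [(h.conj_U hp ha).1]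
  exact mul_mem (Subgroup.mem_sup_left (h.conj_U hp ha).2) (Subgroup.mem_sup_right ha)

theorem U_le_W {p : G} (hp : p ∈ PP V Q) : cj (p * g) V ≤ V ⊔ cj g V := by
  rw [← cj_cj]
  intro z hz
  have h1 := mem_cj.1 hz
  have h2 := (Subgroup.mem_normalizer_iff.1 (h.P_normW hp) (p⁻¹ * z * p)).1 (Subgroup.mem_sup_right h1)
  rwa [show p * (p⁻¹ * z * p) * p⁻¹ = z by group] at h2

/-- The conjugate of the centralizing part. -/
theorem norm_conj {m : G} (hm : m ∈ Subgroup.normalizer (cj g V : Set G)) :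
    g⁻¹ * m * g ∈ Subgroup.normalizer (V : Set G) := by
  refine normalizer_of_cj_eq ?_
  rw [← cj_cj, ← cj_cj, cj_eq_of_normalizer hm, cj_cj, inv_mul_cancel, cj_one]

theorem P'_mem {x : G} : x ∈ cj g (PP V Q) ↔ g⁻¹ * x * g ∈ PP V Q := mem_cj

theorem P'_comm {x a : G} (hx : x ∈ cj g (PP V Q)) (ha : a ∈ cj g V) : a * x = x * a := by
  have h1 := Hy.P_commV (mem_cj.1 hx) (mem_cj.1 ha)
  calc a * x = g * (g⁻¹ * a * g * (g⁻¹ * x * g)) * g⁻¹ := by group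
    _ = g * (g⁻¹ * x * g * (g⁻¹ * a * g)) * g⁻¹ := by rw [h1]
    _ = x * a := by group

theorem P'_norm {x : G} (hx : x ∈ cj g (PP V Q)) : x ∈ Subgroup.normalizer (cj g V : Set G) :=
  norm_of_comm fun _ ha => h.P'_comm hx ha

theorem P'_brk {x y : G} (hx : x ∈ cj g (PP V Q)) (hy : y ∈ cj g (PP V Q)) : ⁅x, y⁆ ∈ cj g V := by
  rw [mem_cj, show g⁻¹ * ⁅x, y⁆ * g = ⁅g⁻¹ * x * g, g⁻¹ * y * g⁆ by
    simp [commutatorElement_def, mul_assoc]]
  exact h.toHy.PP_comm (mem_cj.1 hx) (mem_cj.1 hy)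

theorem P'_sq {x : G} (hx : x ∈ cj g (PP V Q)) : x * x ∈ cj g V := by
  rw [mem_cj, show g⁻¹ * (x * x) * g = (g⁻¹ * x * g) * (g⁻¹ * x * g) by group]
  exact h.toHy.PP_sq (mem_cj.1 hx)

theorem P'_normal {m x : G} (hm : m ∈ Subgroup.normalizer (cj g V : Set G))
    (hx : x ∈ cj g (PP V Q)) : m * x * m⁻¹ ∈ cj g (PP V Q) := by
  have h1 := h.toHy.P_normal (h.norm_conj hm) (mem_cj.1 hx)
  rw [mem_cj]
  rwa [show g⁻¹ * (m * x * m⁻¹) * g = g⁻¹ * m * g * (g⁻¹ * x * g) * (g⁻¹ * m * g)⁻¹ by group]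

theorem P'_cent {x : G} (hx : x ∈ Subgroup.normalizer (cj g V : Set G))
    (hc : ∀ y ∈ cj g (PP V Q), x * y = y * x) : x ∈ cj g V := by
  refine mem_cj.2 (h.toHy.cent_P (h.norm_conj hx) fun p hp => ?_)
  have h1 := hc _ (conj_mem_cj hp)
  calc g⁻¹ * x * g * p = g⁻¹ * (x * (g * p * g⁻¹)) * g := by group
    _ = g⁻¹ * (g * p * g⁻¹ * x) * g := by rw [h1]
    _ = p * (g⁻¹ * x * g) := by group

theorem U_le_P' {a : G} (ha : a ∈ cj g V) : a ∈ cj g (PP V Q) :=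
  mem_cj.2 (h.toHy.V_le_P (mem_cj.1 ha))

theorem V_norm_U {v : G} (hv : v ∈ V) : v ∈ Subgroup.normalizer (cj g V : Set G) :=
  norm_of_comm fun _ ha => (h.comm_UV hv ha).symm

/-- A third conjugate in the centralizing part. -/
theorem exists_third : ∃ k, (∀ b ∈ cj k V, b ∈ PP V Q) ∧
    ∀ b ∈ cj k V, b ∈ Subgroup.normalizer (cj g V : Set G) → b = 1 := by
  classical
  set M := Subgroup.normalizer (V : Set G) with hM
  have hcjQ : ∀ m ∈ M, cj (m * g) V ≤ Q := by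
    intro m hm z hz
    rw [← cj_cj, mem_cj] at hz
    have := h.Qn m hm _ (h.gQ hz)
    rwa [show m * (m⁻¹ * z * m) * m⁻¹ = z by group] at this
  by_cases hno : ∀ m ∈ M, ∀ a ∈ cj g V, ∀ a' ∈ cj g V, a * (m * a' * m⁻¹) = m * a' * m⁻¹ * a
  · exfalso
    let S : Set G := (V : Set G) ∪ {z | ∃ m ∈ M, ∃ a ∈ cj g V, z = m * a * m⁻¹}
    have hSP : ∀ z ∈ S, z ∈ PP V Q := by
      rintro z (hz | ⟨m, hm, a, ha, rfl⟩)
      · exact h.toHy.V_le_P hz
      · exact h.toHy.P_normal hm (h.U_le_P ha)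
    have hScomm : ∀ z ∈ S, ∀ w ∈ S, z * w = w * z := by
      rintro z (hz | ⟨m, hm, a, ha, rfl⟩) w hw
      · exact Hy.P_commV (hSP w hw) hz
      rcases hw with hw | ⟨n, hn, c, hc, rfl⟩
      · exact (Hy.P_commV (hSP _ (.inr ⟨m, hm, a, ha, rfl⟩)) hw).symm
      have h1 := hno (m⁻¹ * n) (mul_mem (inv_mem hm) hn) a ha c hc
      calc m * a * m⁻¹ * (n * c * n⁻¹) = m * (a * (m⁻¹ * n * c * (m⁻¹ * n)⁻¹)) * m⁻¹ := by group
        _ = m * (m⁻¹ * n * c * (m⁻¹ * n)⁻¹ * a) * m⁻¹ := by rw [h1]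
        _ = n * c * n⁻¹ * (m * a * m⁻¹) := by group
    have hAM : Subgroup.closure S ≤ M :=
      (Subgroup.closure_le _).2 fun z hz => h.toHy.P_le (hSP z hz)
    have hAc : ∀ z ∈ Subgroup.closure S, ∀ w ∈ Subgroup.closure S, z * w = w * z := by
      have h1 : Subgroup.closure S ≤ Subgroup.centralizer S :=
        (Subgroup.closure_le _).2 fun z hz => Subgroup.mem_centralizer_iff.2 fun w hw => hScomm w hw z hz
      intro z hz w hw
      have h2 : w ∈ Subgroup.centralizer (Subgroup.closure S : Set G) := by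
        rw [Subgroup.centralizer_closure]
        exact h1 hw
      exact Subgroup.mem_centralizer_iff.1 h2 z hz
    have hAn : ∀ m ∈ M, ∀ z ∈ Subgroup.closure S, m * z * m⁻¹ ∈ Subgroup.closure S := by
      intro m hm z hz
      induction hz using Subgroup.closure_induction with
      | mem z hz =>
        refine Subgroup.subset_closure ?_
        rcases hz with hz | ⟨n, hn, a, ha, rfl⟩
        · exact .inl (h.toHy.conj_mem hm hz)
        · exact .inr ⟨m * n, mul_mem hm hn, a, ha, by group⟩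
      | one => simp
      | mul a b _ _ ha hb =>
        rw [show m * (a * b) * m⁻¹ = (m * a * m⁻¹) * (m * b * m⁻¹) by group]
        exact mul_mem ha hb
      | inv a _ ha =>
        rw [show m * a⁻¹ * m⁻¹ = (m * a * m⁻¹)⁻¹ by group]
        exact inv_mem ha
    have hAV := h.maxab _ (fun v hv => Subgroup.subset_closure (.inl hv)) hAM hAc hAn
    refine h.gne (Subgroup.eq_of_le_of_card_ge (fun a ha => ?_) (card_cj g V).ge)
    rw [← hAV]
    exact Subgroup.subset_closure (.inr ⟨1, one_mem _, a, ha, by group⟩)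
  push Not at hno
  obtain ⟨m, hm, a, ha, a', ha', hne⟩ := hno
  have hb' : m * a' * m⁻¹ ∈ cj (m * g) V := by
    rw [← cj_cj]
    exact conj_mem_cj ha'
  refine ⟨m * g, fun b hb => h.cj_le_P (hcjQ m hm) hb, fun b hb hbN => ?_⟩
  by_contra hb1
  have hcomm : ∀ c ∈ cj g V, b * c = c * b := fun c hc => by
    refine commutatorElement_eq_one_iff_mul_comm.1 ?_
    refine h.disjV h.gne (h.toHy.PP_comm (h.cj_le_P (hcjQ m hm) hb) (h.U_le_P hc)) ?_
    rw [commutatorElement_def]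
    exact mul_mem ((Subgroup.mem_normalizer_iff.1 hbN c).1 hc) (inv_mem hc)
  have hneq : cj (m * g) V ≠ cj g V := fun e => hne (h.toHy.comm_cj ha (e ▸ hb'))
  exact hne (h.toHy.commute_of_le hneq
    (fun c hc => h.toHy.cent_le hb1 hb (hcomm c hc).symm) _ hb' a ha).symm

end Pr

/-- Three conjugates. -/
structure Tri (V Q : Subgroup G) (g k : G) : Prop extends Pr V Q g where
  kP : ∀ b ∈ cj k V, b ∈ PP V Q
  kN : ∀ b ∈ cj k V, b ∈ Subgroup.normalizer (cj g V : Set G) → b = 1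

theorem Pr.exists_tri {V Q : Subgroup G} {g : G} (h : Pr V Q g) : ∃ k, Tri V Q g k := by
  obtain ⟨k, hk1, hk2⟩ := h.exists_third
  exact ⟨k, ⟨h, hk1, hk2⟩⟩

namespace Tri

variable {V Q : Subgroup G} {g k : G} (h : Tri V Q g k)
include h

theorem k_ne : ∃ b ∈ cj k V, b ≠ 1 := by
  obtain ⟨v, hv, hv1⟩ := h.V_ne
  exact ⟨k * v * k⁻¹, conj_mem_cj hv, fun e => hv1 (conj_eq_one_iff.1 e)⟩

theorem kV {b : G} (hb : b ∈ cj k V) (hbV : b ∈ V) : b = 1 := h.kN b hb (h.toPr.V_norm_U hbV)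

theorem brk_ne {a b : G} (ha : a ∈ cj g V) (ha1 : a ≠ 1) (hb : b ∈ cj k V) (e : ⁅a, b⁆ = 1) :
    b = 1 :=
  h.kN b hb (h.toHy.cent_le ha1 ha (commutatorElement_eq_one_iff_mul_comm.1 e).symm)

theorem inj_left {a a' b : G} (ha : a ∈ cj g V) (ha' : a' ∈ cj g V) (hb : b ∈ cj k V) (hb1 : b ≠ 1)
    (e : ⁅a, b⁆ = ⁅a', b⁆) : a = a' := by
  by_contra hne
  refine hb1 (h.brk_ne (mul_mem ha ha') (fun e1 => hne ?_) hb ?_)
  · rw [eq_inv_of_mul_eq_one_left e1]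
    exact inv_eq_of_mul_eq_one_right (h.toHy.sq_cj ha')
  · rw [h.toPr.brk_mul_left (h.toPr.U_le_P ha) (h.toPr.U_le_P ha') (h.kP b hb), e]
    exact h.sq _ (h.toHy.PP_comm (h.toPr.U_le_P ha') (h.kP b hb))

theorem inj_right {a b b' : G} (ha : a ∈ cj g V) (ha1 : a ≠ 1) (hb : b ∈ cj k V) (hb' : b' ∈ cj k V)
    (e : ⁅a, b⁆ = ⁅a, b'⁆) : b = b' := by
  have h1 : b * b' = 1 := by
    refine h.brk_ne ha ha1 (mul_mem hb hb') ?_
    rw [h.toPr.brk_mul_right (h.toPr.U_le_P ha) (h.kP b hb) (h.kP b' hb'), e]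
    exact h.sq _ (h.toHy.PP_comm (h.toPr.U_le_P ha) (h.kP b' hb'))
  rw [eq_inv_of_mul_eq_one_left h1]
  exact inv_eq_of_mul_eq_one_right (h.toHy.sq_cj hb')

theorem surj_left {b v : G} (hb : b ∈ cj k V) (hb1 : b ≠ 1) (hv : v ∈ V) :
    ∃ a ∈ cj g V, ⁅a, b⁆ = v := by
  let f : cj g V → V := fun a => ⟨⁅(a : G), b⁆, h.toHy.PP_comm (h.toPr.U_le_P a.2) (h.kP b hb)⟩
  have hf : Function.Injective f := fun a a' e =>
    Subtype.ext (h.inj_left a.2 a'.2 hb hb1 (congrArg Subtype.val e))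
  obtain ⟨a, ha⟩ := (hf.bijective_of_nat_card_le (card_cj g V).ge).2 ⟨v, hv⟩
  exact ⟨a, a.2, congrArg Subtype.val ha⟩

theorem surj_right {a v : G} (ha : a ∈ cj g V) (ha1 : a ≠ 1) (hv : v ∈ V) :
    ∃ b ∈ cj k V, ⁅a, b⁆ = v := by
  let f : cj k V → V := fun b => ⟨⁅a, (b : G)⁆, h.toHy.PP_comm (h.toPr.U_le_P ha) (h.kP b b.2)⟩
  have hf : Function.Injective f := fun b b' e =>
    Subtype.ext (h.inj_right ha ha1 b.2 b'.2 (congrArg Subtype.val e))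
  obtain ⟨b, hb⟩ := (hf.bijective_of_nat_card_le (card_cj k V).ge).2 ⟨v, hv⟩
  exact ⟨b, b.2, congrArg Subtype.val hb⟩

theorem J_cent {p : G} (hp : p ∈ PP V Q) (hpN : p ∈ Subgroup.normalizer (cj g V : Set G))
    {a : G} (ha : a ∈ cj g V) : p * a = a * p := by
  refine commutatorElement_eq_one_iff_mul_comm.1 ?_
  refine h.toPr.disjV h.gne (h.toPr.conj_U hp ha).2 ?_
  rw [commutatorElement_def]
  exact mul_mem ((Subgroup.mem_normalizer_iff.1 hpN a).1 ha) (inv_mem ha)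

theorem decomp {p : G} (hp : p ∈ PP V Q) : ∃ j ∈ PP V Q,
    j ∈ Subgroup.normalizer (cj g V : Set G) ∧ ∃ b ∈ cj k V, p = j * b := by
  obtain ⟨a, ha, ha1⟩ := h.U_ne
  obtain ⟨b, hb, e⟩ := h.surj_right ha ha1 (h.toHy.PP_comm (h.toPr.U_le_P ha) hp)
  have hj : p * b⁻¹ ∈ PP V Q := mul_mem hp (inv_mem (h.kP b hb))
  refine ⟨p * b⁻¹, hj, h.toHy.cent_le ha1 ha ?_, b, hb, by group⟩
  refine (commutatorElement_eq_one_iff_mul_comm.1 ?_).symm
  rw [inv_eq_of_mul_eq_one_right (h.toHy.sq_cj hb),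
    h.toPr.brk_mul_right (h.toPr.U_le_P ha) hp (h.kP b hb), e]
  exact h.sq _ (h.toHy.PP_comm (h.toPr.U_le_P ha) hp)

theorem cover {w : G} (hw : w ∈ V ⊔ cj g V) (hwV : w ∉ V) :
    ∃ b ∈ cj k V, w ∈ cj (b * g) V := by
  obtain ⟨v, hv, a, ha, rfl⟩ := h.toPr.mem_W.1 hw
  have ha1 : a ≠ 1 := fun e => hwV (by rwa [e, mul_one])
  obtain ⟨b, hb, e⟩ := h.surj_right ha ha1 hv
  refine ⟨b, hb, ?_⟩
  rw [← cj_cj, ← e, h.toPr.brk_comm (h.toPr.U_le_P ha) (h.kP b hb),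
    ← (h.toPr.conj_U (h.kP b hb) ha).1]
  exact conj_mem_cj ha

theorem exists_unique_conj {w : G} (hw : w ∈ V ⊔ cj g V) (hw1 : w ≠ 1) :
    ∃! U : Subgroup G, (∃ x : G, U = cj x V) ∧ U ≤ V ⊔ cj g V ∧ w ∈ U := by
  have hex : ∃ U : Subgroup G, (∃ x : G, U = cj x V) ∧ U ≤ V ⊔ cj g V ∧ w ∈ U := by
    by_cases hwV : w ∈ V
    · exact ⟨V, ⟨1, (cj_one V).symm⟩, le_sup_left, hwV⟩
    · obtain ⟨b, hb, hwb⟩ := h.cover hw hwV
      exact ⟨_, ⟨_, rfl⟩, h.toPr.U_le_W (h.kP b hb), hwb⟩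
  obtain ⟨U, ⟨x, rfl⟩, hU⟩ := hex
  refine ⟨_, ⟨⟨x, rfl⟩, hU⟩, ?_⟩
  rintro U' ⟨⟨y, rfl⟩, -, hy⟩
  exact h.toHy.ti' hw1 hy hU.2

theorem classify {x : G} (hx : cj x V ≤ V ⊔ cj g V) (hne : cj x V ≠ V) :
    ∃ b ∈ cj k V, cj x V = cj (b * g) V := by
  obtain ⟨v, hv, hv1⟩ := h.V_ne
  have hw : x * v * x⁻¹ ∈ cj x V := conj_mem_cj hv
  have hw1 : x * v * x⁻¹ ≠ 1 := fun e => hv1 (conj_eq_one_iff.1 e)
  obtain ⟨b, hb, hwb⟩ := h.cover (hx hw) fun hV => hw1 (h.toPr.disjV hne hV hw)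
  exact ⟨b, hb, h.toHy.ti' hw1 hw hwb⟩

theorem cent_of_fix {c b0 : G} (hc : c ∈ PP V Q) (hb0 : b0 ∈ cj k V) (hb1 : b0 ≠ 1)
    (e : ⁅c, b0⁆ = 1)
    (hJ : ∀ j ∈ PP V Q, j ∈ Subgroup.normalizer (cj g V : Set G) → c * j = j * c) : c ∈ V := by
  have hcN := h.toHy.cent_le hb1 hb0 (commutatorElement_eq_one_iff_mul_comm.1 e)
  refine h.toHy.cent_P (h.toHy.P_le hc) fun p hp => ?_
  obtain ⟨j, hj, hjN, b, hb, rfl⟩ := h.decomp hp
  have hcb : c * b = b * c := by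
    refine commutatorElement_eq_one_iff_mul_comm.1 ?_
    refine h.kV ?_ (h.toHy.PP_comm hc (h.kP b hb))
    rw [commutatorElement_def]
    exact mul_mem ((Subgroup.mem_normalizer_iff.1 hcN b).1 hb) (inv_mem hb)
  exact ((show Commute c j from hJ j hj hjN).mul_right hcb).eq

end Tri

end Cfsg.Agent.Solv.TIConj
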