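import Mathlib

/-!
Semilinear elements of a ring of characteristic two over an embedded finite field.
-/

set_option autoImplicit false
set_option linter.style.haveILetI false
set_option linter.unusedSectionVars false

namespace Cfsg.Agent.Solv.TIConj

universe u v
variable {K : Type u} [Field K] [Fintype K] [DecidableEq K] [CharP K 2]

instance instFiniteAut : Finite (RingAut K) :=
  Finite.of_injective (fun σ : RingAut K => ⇑σ) DFunLike.coe_injective

noncomputable instance instFintypeAut : Fintype (RingAut K) := Fintype.ofFinite _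
variable {R : Type v} [Ring R] (ι : K →+* R)

/-- The element `a` is semilinear with respect to `σ`. -/
def Semi (σ : RingAut K) (a : R) : Prop := ∀ f, a * ι f = ι (σ f) * a

theorem semi_one : Semi ι 1 1 := fun f => by simp

theorem Semi.comm {a : R} (h : Semi ι 1 a) (f : K) : a * ι f = ι f * a := h f

theorem Semi.mul {σ τ : RingAut K} {a b : R} (ha : Semi ι σ a) (hb : Semi ι τ b) :
    Semi ι (σ * τ) (a * b) := fun f => by
  rw [mul_assoc, hb f, ← mul_assoc, ha (τ f), mul_assoc]
  rfl

theorem Semi.pow {σ : RingAut K} {a : R} (ha : Semi ι σ a) (n : ℕ) : Semi ι (σ ^ n) (a ^ n) := by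
  induction n with
  | zero => simpa using semi_one ι
  | succ n ih => rw [pow_succ, pow_succ]; exact ih.mul ι ha

theorem Semi.smul {σ : RingAut K} {a : R} (ha : Semi ι σ a) (c : K) : Semi ι σ (ι c * a) :=
  fun f => by rw [mul_assoc, ha f, ← mul_assoc, ← mul_assoc, ← map_mul, ← map_mul, mul_comm c]

theorem Semi.add {σ : RingAut K} {a b : R} (ha : Semi ι σ a) (hb : Semi ι σ b) :
    Semi ι σ (a + b) := fun f => by rw [add_mul, mul_add, ha f, hb f]

theorem semi_range (c : K) : Semi ι 1 (ι c) := fun f => by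
  show ι c * ι f = ι f * ι c
  rw [← map_mul, ← map_mul, mul_comm]

theorem smul_eq_zero {c : K} {a : R} (h : ι c * a = 0) : c = 0 ∨ a = 0 := by
  by_cases hc : c = 0
  · exact Or.inl hc
  refine Or.inr ?_
  calc a = ι c⁻¹ * (ι c * a) := by rw [← mul_assoc, ← map_mul, inv_mul_cancel₀ hc, map_one, one_mul]
    _ = 0 := by rw [h, mul_zero]

theorem smul_cancel {c d : K} {a : R} (ha : a ≠ 0) (h : ι c * a = ι d * a) : c = d := by
  rcases smul_eq_zero ι (c := c - d) (a := a) (by rw [map_sub, sub_mul, h, sub_self]) with e | e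
  · exact sub_eq_zero.1 e
  · exact absurd e ha

open scoped Classical in
theorem sum_units (φ : Kˣ →* K) : ∑ h : Kˣ, φ h = if φ = 1 then 1 else 0 := by
  rw [sum_hom_units]
  split_ifs
  · rw [Fintype.card_units, Nat.cast_sub Fintype.card_pos, FiniteField.cast_card_eq_zero,
      Nat.cast_one, zero_sub, CharTwo.neg_eq]
  · rw [Nat.cast_zero]

/-- The quotient of two field automorphisms on the units. -/
def ratioHom (σ τ : RingAut K) : Kˣ →* K where
  toFun h := (σ (h : K))⁻¹ * τ (h : K)
  map_one' := by simp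
  map_mul' a b := by simp [map_mul, mul_inv]; ring

open scoped Classical in
theorem sum_ratio (σ τ : RingAut K) :
    ∑ h : Kˣ, (σ (h : K))⁻¹ * τ (h : K) = if σ = τ then 1 else 0 := by
  show ∑ h : Kˣ, ratioHom σ τ h = _
  rw [sum_units]
  refine if_congr ⟨fun e => RingEquiv.ext fun f => ?_, fun e => ?_⟩ rfl rfl
  · by_cases hf : f = 0
    · simp [hf]
    · have h := DFunLike.congr_fun e (Units.mk0 f hf)
      simp only [ratioHom, MonoidHom.coe_mk, OneHom.coe_mk, Units.val_mk0,
        MonoidHom.one_apply] at h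
      exact (inv_mul_eq_one₀ ((map_ne_zero σ).2 hf)).1 h
  · subst e
    ext h
    simp [ratioHom, inv_mul_cancel₀ ((map_ne_zero σ).2 h.ne_zero)]

/-- The component of an element with respect to `σ`. -/
noncomputable def comp (σ : RingAut K) : R →+ R :=
  ∑ h : Kˣ, (AddMonoidHom.mulLeft (ι (σ (h : K))⁻¹)).comp (AddMonoidHom.mulRight (ι (h : K)))

theorem comp_apply (σ : RingAut K) (u : R) :
    comp ι σ u = ∑ h : Kˣ, ι (σ (h : K))⁻¹ * (u * ι (h : K)) := by
  simp [comp, AddMonoidHom.finsetSum_apply]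

theorem semi_comp (σ : RingAut K) (u : R) : Semi ι σ (comp ι σ u) := by
  intro f
  by_cases hf : f = 0
  · simp [hf]
  rw [comp_apply, Finset.sum_mul, Finset.mul_sum]
  refine Fintype.sum_equiv (Equiv.mulRight (Units.mk0 f hf)) _ _ fun h => ?_
  simp only [Equiv.coe_mulRight, Units.val_mul, Units.val_mk0]
  rw [← mul_assoc (ι (σ f)), ← map_mul ι (σ f), map_mul σ, mul_inv, mul_left_comm (σ f),
    mul_inv_cancel₀ ((map_ne_zero σ).2 hf), mul_one, map_mul ι (h : K), mul_assoc, mul_assoc]

open scoped Classical in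
theorem comp_semi {σ τ : RingAut K} {a : R} (ha : Semi ι τ a) :
    comp ι σ a = if σ = τ then a else 0 := by
  rw [comp_apply, Finset.sum_congr rfl (g := fun h : Kˣ => ι ((σ (h : K))⁻¹ * τ (h : K)) * a)
    (fun h _ => by rw [ha, ← mul_assoc, ← map_mul]), ← Finset.sum_mul, ← map_sum, sum_ratio]
  split_ifs <;> simp

theorem comp_self {σ : RingAut K} {a : R} (ha : Semi ι σ a) : comp ι σ a = a := by
  classical
  rw [comp_semi ι ha, if_pos rfl]

theorem comp_other {σ τ : RingAut K} {a : R} (ha : Semi ι τ a) (h : σ ≠ τ) : comp ι σ a = 0 := by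
  classical
  rw [comp_semi ι ha, if_neg h]

/-- Every element is a sum of semilinear elements. -/
theorem exists_decomposition (u : R) :
    ∃ (n : ℕ) (σ : ℕ → RingAut K) (a : ℕ → R), (∀ k, Semi ι (σ k) (a k)) ∧
      u = ∑ k ∈ Finset.range n, a k := by
  classical
  let A : ℕ → R := fun k => ∑ h : Kˣ, ι (((h : K)⁻¹) ^ k) * (u * ι (h : K))
  have hA : ∀ k, ∀ f : K, f ≠ 0 → A k * ι f = ι (f ^ k) * A k := fun k f hf => by
    show (∑ h : Kˣ, _) * ι f = ι (f ^ k) * ∑ h : Kˣ, _
    rw [Finset.sum_mul, Finset.mul_sum]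
    refine Fintype.sum_equiv (Equiv.mulRight (Units.mk0 f hf)) _ _ fun h => ?_
    simp only [Equiv.coe_mulRight, Units.val_mul, Units.val_mk0]
    rw [← mul_assoc (ι (f ^ k)), ← map_mul ι (f ^ k), ← mul_pow, mul_inv, mul_left_comm f,
      mul_inv_cancel₀ hf, mul_one, map_mul ι (h : K), mul_assoc, mul_assoc]
  have hsemi : ∀ k, ∃ σ : RingAut K, Semi ι σ (A k) := fun k => by
    by_cases h0 : A k = 0
    · exact ⟨1, fun f => by rw [h0]; simp⟩
    let φ : K → K := fun f => if f = 0 then 0 else f ^ k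
    have hφ : ∀ f, A k * ι f = ι (φ f) * A k := fun f => by
      by_cases hf : f = 0
      · simp [φ, hf]
      · simp only [φ, if_neg hf]; exact hA k f hf
    let Φ : K →+* K :=
      { toFun := φ
        map_zero' := by simp [φ]
        map_one' := by simp [φ]
        map_add' := fun f g => smul_cancel ι h0 (by
          rw [← hφ, map_add, mul_add, hφ, hφ, ← add_mul, ← map_add])
        map_mul' := fun f g => smul_cancel ι h0 (by
          rw [← hφ, map_mul, ← mul_assoc, hφ, mul_assoc, hφ, ← mul_assoc, ← map_mul]) }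
    exact ⟨RingEquiv.ofBijective Φ (Finite.injective_iff_bijective.1 Φ.injective), fun f => hφ f⟩
  choose σ hσ using hsemi
  refine ⟨Fintype.card K - 1, σ, A, hσ, ?_⟩
  show u = ∑ k ∈ Finset.range _, ∑ h : Kˣ, _
  rw [Finset.sum_comm, Finset.sum_congr rfl (g := fun h : Kˣ => if h = 1 then u else 0)]
  · simp
  intro h _
  rw [← Finset.sum_mul, ← map_sum]
  split_ifs with h1
  · subst h1
    simp only [Units.val_one, inv_one, one_pow, Finset.sum_const, Finset.card_range, nsmul_eq_mul,
      mul_one, map_one]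
    rw [Nat.cast_sub Fintype.card_pos, FiniteField.cast_card_eq_zero, Nat.cast_one, zero_sub,
      CharTwo.neg_eq, map_one, one_mul]
  · have hx : ((h : K)⁻¹ - 1) ≠ 0 := by
      rw [sub_ne_zero, ne_eq, inv_eq_one]
      exact fun e => h1 (Units.ext e)
    have hs := geom_sum_mul (h : K)⁻¹ (Fintype.card K - 1)
    rw [inv_pow, FiniteField.pow_card_sub_one_eq_one _ h.ne_zero, inv_one, sub_self] at hs
    rw [(mul_eq_zero.1 hs).resolve_right hx, map_zero, zero_mul]

theorem ext_semi {Φ Ψ : R →+ R} (h : ∀ σ a, Semi ι σ a → Φ a = Ψ a) (u : R) : Φ u = Ψ u := by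
  obtain ⟨n, σ, a, ha, rfl⟩ := exists_decomposition ι u
  rw [map_sum, map_sum]
  exact Finset.sum_congr rfl fun k _ => h _ _ (ha k)

theorem semi_one_of_comp {u : R} (h : ∀ σ : RingAut K, σ ≠ 1 → comp ι σ u = 0) : Semi ι 1 u := by
  classical
  have h' : comp ι 1 u = u := by
    have hsum := ext_semi ι (Φ := ∑ σ : RingAut K, comp ι σ) (Ψ := AddMonoidHom.id R)
      (fun τ a ha => by
        rw [AddMonoidHom.finsetSum_apply,
          Finset.sum_eq_single τ (fun σ _ hσ => comp_other ι ha hσ) (by simp), comp_self ι ha]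
        rfl) u
    rw [AddMonoidHom.finsetSum_apply, Finset.sum_eq_single (1 : RingAut K) (fun σ _ hσ => h σ hσ)
      (by simp)] at hsum
    exact hsum
  exact h' ▸ semi_comp ι 1 u

/-- Two ways of writing a product of a field element and its image. -/
theorem pair_eq {ρ σ τ : RingAut K} (h : ∀ f : Kˣ, (f : K) * τ (f : K) = ρ ((f : K) * σ (f : K))) :
    (ρ = 1 ∧ τ = σ) ∨ (ρ = τ ∧ τ = σ⁻¹) := by
  have hall : ∀ f : K, f * τ f = ρ f * ρ (σ f) := fun f => by
    by_cases hf : f = 0
    · simp [hf]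
    · rw [← map_mul]; exact h (Units.mk0 f hf)
  have hadd : ∀ f : K, f + τ f = ρ f + ρ (σ f) := fun f => by
    have a := hall (f + 1)
    simp only [map_add, map_one] at a
    have b := hall f
    linear_combination a - b
  have hroot : ∀ f : K, ρ f = f ∨ ρ f = τ f := fun f => by
    have : (ρ f - f) * (ρ f - τ f) = 0 := by
      linear_combination hall f - ρ f * hadd f
    rcases mul_eq_zero.1 this with e | e
    · exact Or.inl (sub_eq_zero.1 e)
    · exact Or.inr (sub_eq_zero.1 e)
  have hone : ρ = 1 ∨ ρ = τ := by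
    by_contra hne
    rw [not_or] at hne
    obtain ⟨x, hx⟩ : ∃ x, ρ x ≠ x := by
      by_contra hh
      push Not at hh
      exact hne.1 (RingEquiv.ext hh)
    obtain ⟨y, hy⟩ : ∃ y, ρ y ≠ τ y := by
      by_contra hh
      push Not at hh
      exact hne.2 (RingEquiv.ext hh)
    have hx' := (hroot x).resolve_left hx
    have hy' := (hroot y).resolve_right hy
    rcases hroot (x + y) with e | e
    · rw [map_add, hy'] at e; exact hx (add_right_cancel e)
    · rw [map_add, map_add, hx'] at e; exact hy (add_left_cancel e)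
  rcases hone with e | e
  · subst e
    refine Or.inl ⟨rfl, RingEquiv.ext fun f => ?_⟩
    have := hadd f
    exact add_left_cancel this
  · subst e
    refine Or.inr ⟨rfl, eq_inv_of_mul_eq_one_left (RingEquiv.ext fun f => ?_)⟩
    have := hadd f
    show ρ (σ f) = f
    linear_combination -this

/-- The absolute trace, as a sum over all automorphisms. -/
noncomputable def atr (x : K) : K :=
  ∑ ρ : RingAut K, ρ x

theorem atr_zero_or_one (x : K) : atr x = 0 ∨ atr x = 1 := by
  set fr : RingAut K := RingEquiv.ofBijective (frobenius K 2)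
    (Finite.injective_iff_bijective.1 (frobenius_inj K 2)) with hfr
  have h : atr x * atr x = atr x := by
    rw [← pow_two, atr, ← frobenius_def, map_sum]
    exact Fintype.sum_equiv (Equiv.mulLeft fr) _ _ fun ρ => rfl
  rcases eq_or_ne (atr x) 0 with e | e
  · exact Or.inl e
  · exact Or.inr (mul_right_cancel₀ e (by rw [h, one_mul]))

open scoped Classical in
/-- The two-sided operator isolating the components of `σ` and its inverse. -/
noncomputable def proj (σ : RingAut K) (l : K) : R →+ R :=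
  ∑ h ∈ Finset.univ.filter (fun h : Kˣ => atr (l / ((h : K) * σ (h : K))) = 1),
    (AddMonoidHom.mulLeft (ι (h : K))).comp (AddMonoidHom.mulRight (ι (h : K)))

theorem proj_mem (S : AddSubgroup R) (hS : ∀ f, ι f ∈ S)
    (hsts : ∀ s ∈ S, ∀ t ∈ S, s * t * s ∈ S) (σ : RingAut K) (l : K) {u : R} (hu : u ∈ S) :
    proj ι σ l u ∈ S := by
  classical
  rw [proj, AddMonoidHom.finsetSum_apply]
  refine AddSubgroup.sum_mem S fun h _ => ?_
  show ι (h : K) * (u * ι (h : K)) ∈ S
  rw [← mul_assoc]
  exact hsts _ (hS _) _ hu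

open scoped Classical in
theorem proj_semi (σ : RingAut K) (l : K) {τ : RingAut K} {a : R}
    (ha : Semi ι τ a) :
    proj ι σ l a = ι (∑ ρ : RingAut K,
      if (ρ = 1 ∧ τ = σ) ∨ (ρ = τ ∧ τ = σ⁻¹) then ρ l else 0) * a := by
  rw [proj, AddMonoidHom.finsetSum_apply, Finset.sum_congr rfl
    (g := fun h : Kˣ => ι ((h : K) * τ (h : K)) * a) (fun h _ => by
      show ι (h : K) * (a * ι (h : K)) = _
      rw [ha, ← mul_assoc, ← map_mul]), ← Finset.sum_mul, ← map_sum]
  congr 2
  rw [Finset.sum_filter, Finset.sum_congr rfl (g := fun h : Kˣ => ∑ ρ : RingAut K,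
    ρ l * ((ρ ((h : K) * σ (h : K)))⁻¹ * ((h : K) * τ (h : K)))), Finset.sum_comm]
  · refine Finset.sum_congr rfl fun ρ _ => ?_
    rw [← Finset.mul_sum]
    let φ : Kˣ →* K :=
      { toFun := fun h => (ρ ((h : K) * σ (h : K)))⁻¹ * ((h : K) * τ (h : K))
        map_one' := by simp
        map_mul' := fun x y => by simp [map_mul, mul_inv]; ring }
    show ρ l * ∑ h : Kˣ, φ h = _
    rw [sum_units]
    have hiff : φ = 1 ↔ (ρ = 1 ∧ τ = σ) ∨ (ρ = τ ∧ τ = σ⁻¹) := by
      constructor
      · intro e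
        refine pair_eq fun f => ?_
        have h := DFunLike.congr_fun e f
        simp only [φ, MonoidHom.coe_mk, OneHom.coe_mk, MonoidHom.one_apply] at h
        exact ((inv_mul_eq_one₀ ((map_ne_zero ρ).2 (mul_ne_zero f.ne_zero
          ((map_ne_zero σ).2 f.ne_zero)))).1 h).symm
      · intro e
        ext h
        have hne : ρ ((h : K) * σ (h : K)) ≠ 0 :=
          (map_ne_zero ρ).2 (mul_ne_zero h.ne_zero ((map_ne_zero σ).2 h.ne_zero))
        simp only [φ, MonoidHom.coe_mk, OneHom.coe_mk, MonoidHom.one_apply]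
        rw [inv_mul_eq_one₀ hne]
        rcases e with ⟨rfl, rfl⟩ | ⟨rfl, e⟩
        · simp
        · have : ρ (σ (h : K)) = h := by
            rw [e]
            exact σ.symm_apply_apply _
          rw [map_mul, this, mul_comm]
    by_cases hφ : φ = 1
    · rw [if_pos hφ, if_pos (hiff.1 hφ), mul_one]
    · rw [if_neg hφ, if_neg (fun e => hφ (hiff.2 e)), mul_zero]
  · intro h _
    rw [Finset.sum_congr rfl (g := fun ρ : RingAut K =>
      ρ (l / ((h : K) * σ (h : K))) * ((h : K) * τ (h : K))) (fun ρ _ => by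
        rw [map_div₀]; ring), ← Finset.sum_mul]
    have e : ∑ ρ : RingAut K, ρ (l / ((h : K) * σ (h : K))) = atr (l / ((h : K) * σ (h : K))) := rfl
    rw [e]
    rcases atr_zero_or_one (l / ((h : K) * σ (h : K))) with e' | e' <;> simp [e']

theorem proj_eq {σ : RingAut K} (hσ : σ ≠ 1) (l : K) (u : R) :
    proj ι σ l u = ι l * comp ι σ u + ι (σ⁻¹ l) * comp ι σ⁻¹ u := by
  classical
  refine ext_semi ι (Φ := proj ι σ l)
    (Ψ := (AddMonoidHom.mulLeft (ι l)).comp (comp ι σ) +
      (AddMonoidHom.mulLeft (ι (σ⁻¹ l))).comp (comp ι σ⁻¹)) (fun τ a ha => ?_) u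
  rw [proj_semi ι σ l ha, AddMonoidHom.add_apply]
  show _ = ι l * comp ι σ a + ι (σ⁻¹ l) * comp ι σ⁻¹ a
  rw [comp_semi ι ha, comp_semi ι ha, mul_ite, mul_ite, mul_zero, mul_zero]
  have hsum : (∑ ρ : RingAut K, if (ρ = 1 ∧ τ = σ) ∨ (ρ = τ ∧ τ = σ⁻¹) then ρ l else 0) =
      (if σ = τ then l else 0) + (if σ⁻¹ = τ then σ⁻¹ l else 0) := by
    rw [Finset.sum_congr rfl (g := fun ρ : RingAut K =>
      (if ρ = 1 ∧ τ = σ then ρ l else 0) + (if ρ = τ ∧ τ = σ⁻¹ then ρ l else 0)) (fun ρ _ => by
        by_cases h1 : ρ = 1 ∧ τ = σ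
        · have h2 : ¬(ρ = τ ∧ τ = σ⁻¹) := fun h2 => hσ (h1.2 ▸ h2.1 ▸ h1.1)
          simp [h1, h2, hσ.symm]
        · simp [h1]), Finset.sum_add_distrib]
    congr 1
    · by_cases e : σ = τ
      · subst e
        simp [Finset.sum_ite_eq']
      · rw [if_neg e]
        exact Finset.sum_eq_zero fun ρ _ => if_neg fun h => e h.2.symm
    · by_cases e : σ⁻¹ = τ
      · subst e
        simp [Finset.sum_ite_eq']
      · rw [if_neg e]
        exact Finset.sum_eq_zero fun ρ _ => if_neg fun h => e h.2.symm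
  rw [hsum, map_add, add_mul]
  congr 1 <;> split_ifs <;> simp

theorem proj_one (u : R) : proj ι 1 1 u = comp ι 1 u := by
  classical
  refine ext_semi ι (fun τ a ha => ?_) u
  rw [proj_semi ι 1 1 ha, comp_semi ι ha]
  by_cases e : (1 : RingAut K) = τ
  · subst e
    rw [if_pos rfl, Finset.sum_eq_single (1 : RingAut K) (fun ρ _ hρ => if_neg (by
      rintro (⟨h, -⟩ | ⟨h, -⟩) <;> exact hρ h)) (by simp), if_pos (Or.inl ⟨rfl, rfl⟩)]
    simp
  · rw [if_neg e, Finset.sum_eq_zero (fun ρ _ => if_neg (by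
      rintro (⟨-, h⟩ | ⟨-, h⟩)
      · exact e h.symm
      · exact e (by rw [h, inv_one]))), map_zero, zero_mul]

/-- Independence of distinct powers of an automorphism. -/
theorem exists_sum_ne_zero (σ : RingAut K) (v : ℕ → R) (hv : v 0 ≠ 0) :
    ∃ f : K, ∑ i ∈ Finset.range (orderOf σ), ι ((σ ^ i) f) * v i ≠ 0 := by
  classical
  by_contra hno
  push Not at hno
  have h : ∑ f : Kˣ, ι ((f : K)⁻¹) * ∑ i ∈ Finset.range (orderOf σ), ι ((σ ^ i) (f : K)) * v i = 0 :=
    Finset.sum_eq_zero fun f _ => by rw [hno, mul_zero]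
  simp only [Finset.mul_sum, ← mul_assoc, ← map_mul] at h
  rw [Finset.sum_comm, Finset.sum_congr rfl (g := fun i => if i = 0 then v 0 else 0)] at h
  · rw [Finset.sum_ite_eq', if_pos (Finset.mem_range.2 (orderOf_pos σ))] at h
    exact hv h
  intro i hi
  rw [← Finset.sum_mul, ← map_sum]
  have hs := sum_ratio (1 : RingAut K) (σ ^ i)
  simp only [RingAut.one_apply] at hs
  rw [hs]
  by_cases hi0 : i = 0
  · subst hi0; simp
  · rw [if_neg (fun e => pow_ne_one_of_lt_orderOf hi0 (Finset.mem_range.1 hi) e.symm),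
      if_neg hi0, map_zero, zero_mul]

/-- The norm along a cyclic group of automorphisms. -/
noncomputable def nm (σ : RingAut K) (x : K) : K := ∏ i ∈ Finset.range (orderOf σ), (σ ^ i) x

theorem nm_apply (σ : RingAut K) (x : K) : nm σ (σ x) = nm σ x := by
  have h1 := Finset.prod_range_succ' (fun i => (σ ^ i) x) (orderOf σ)
  have h2 := Finset.prod_range_succ (fun i => (σ ^ i) x) (orderOf σ)
  rw [pow_orderOf_eq_one, RingAut.one_apply] at h2
  rw [pow_zero, RingAut.one_apply, h2] at h1
  by_cases hx : x = 0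
  · simp [hx]
  rw [nm, nm, mul_right_cancel₀ hx h1]
  exact Finset.prod_congr rfl fun i _ => by rw [pow_succ]; rfl

theorem apply_nm (σ : RingAut K) (x : K) : σ (nm σ x) = nm σ x := by
  conv_rhs => rw [← nm_apply σ x]
  rw [nm, nm, map_prod]
  exact Finset.prod_congr rfl fun i _ => by
    show (σ * σ ^ i) x = (σ ^ i * σ) x
    rw [(Commute.self_pow σ i).eq]

/-- Surjectivity of the norm on the fixed field. -/
theorem exists_nm_eq (σ : RingAut K) {c : K} (hc : σ c = c) (hc0 : c ≠ 0) :
    ∃ x : K, x ≠ 0 ∧ nm σ x = c := by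
  classical
  let σu : Kˣ →* Kˣ := Units.map (σ : RingAut K).toRingHom.toMonoidHom
  let f : Kˣ →* Kˣ := ∏ i ∈ Finset.range (orderOf σ), Units.map (σ ^ i).toRingHom.toMonoidHom
  let g : Kˣ →* Kˣ := σu / MonoidHom.id Kˣ
  have hf : ∀ x : Kˣ, ((f x : Kˣ) : K) = nm σ (x : K) := fun x => by
    simp [f, nm, MonoidHom.finsetProd_apply]
  have hg : ∀ x : Kˣ, ((g x : Kˣ) : K) = σ (x : K) / (x : K) := fun x => by
    simp [g, σu, div_eq_mul_inv]
  have hker : f.ker ≤ g.range := by
    intro y hy
    have hy' : nm σ (y : K) = 1 := by rw [← hf, MonoidHom.mem_ker.1 hy, Units.val_one]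
    set w : ℕ → K := fun i => ∏ j ∈ Finset.range i, (σ ^ j) (y : K) with hw
    obtain ⟨x, hx⟩ := exists_sum_ne_zero (RingHom.id K) σ w (by simp [hw])
    simp only [RingHom.id_apply] at hx
    set Y := ∑ i ∈ Finset.range (orderOf σ), (σ ^ i) x * w i with hY
    have hstep : (y : K) * σ Y = Y := by
      rw [hY, map_sum, Finset.mul_sum]
      have h1 := Finset.sum_range_succ' (fun i => (σ ^ i) x * w i) (orderOf σ)
      have h2 := Finset.sum_range_succ (fun i => (σ ^ i) x * w i) (orderOf σ)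
      have htop : (σ ^ orderOf σ) x * w (orderOf σ) = (σ ^ 0) x * w 0 := by
        rw [pow_orderOf_eq_one, pow_zero]
        show (1 : RingAut K) x * nm σ (y : K) = _
        rw [hy']; simp [hw]
      rw [h2, htop] at h1
      rw [add_right_cancel h1]
      refine Finset.sum_congr rfl fun i _ => ?_
      simp only [hw]
      rw [Finset.prod_range_succ', map_mul, map_prod, pow_zero, RingAut.one_apply, pow_succ' σ i]
      show (y : K) * ((σ * σ ^ i) x * ∏ j ∈ Finset.range i, (σ * σ ^ j) (y : K)) = _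
      rw [Finset.prod_congr rfl (fun j _ => by rw [pow_succ'] :
        ∀ j ∈ Finset.range i, (σ ^ (j + 1)) (y : K) = (σ * σ ^ j) (y : K))]
      ring
    refine ⟨(Units.mk0 Y hx)⁻¹, Units.ext ?_⟩
    rw [hg, Units.val_inv_eq_inv_val, Units.val_mk0, map_inv₀]
    field_simp [(map_ne_zero σ).2 hx]
    linear_combination -hstep
  have hle : f.range ≤ g.ker := by
    rintro _ ⟨x, rfl⟩
    refine MonoidHom.mem_ker.2 (Units.ext ?_)
    rw [hg, hf, apply_nm, Units.val_one, div_self]
    rw [← hf]; exact Units.ne_zero _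
  have h1 := Subgroup.card_mul_index f.ker
  have h2 := Subgroup.card_mul_index g.ker
  rw [Subgroup.index_ker] at h1 h2
  have h3 : Nat.card f.ker ≤ Nat.card g.range := Subgroup.card_le_of_le hker
  have h4 : Nat.card g.ker ≤ Nat.card f.range := by
    by_contra hlt
    push Not at hlt
    have := Nat.mul_lt_mul_of_le_of_lt h3 hlt (Nat.card_pos)
    rw [h1, mul_comm, h2] at this
    exact lt_irrefl _ this
  have heq := Subgroup.eq_of_le_of_card_ge hle h4
  have hcm : Units.mk0 c hc0 ∈ g.ker := MonoidHom.mem_ker.2 (Units.ext (by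
    rw [hg, Units.val_mk0, hc, div_self hc0, Units.val_one]))
  rw [← heq] at hcm
  obtain ⟨x, hx⟩ := hcm
  exact ⟨x, x.ne_zero, by rw [← hf, hx, Units.val_mk0]⟩

end Cfsg.Agent.Solv.TIConj
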