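import Cfsg.Agent.Lib.Solv.TIConj.Pair

/-!
An element normalizing the group of two conjugates and interchanging them.
-/

open Cfsg
open scoped commutatorElement

set_option autoImplicit false
set_option linter.style.haveILetI false
set_option linter.unusedSectionVars false

namespace Cfsg.Agent.Solv.TIConj

universe u
variable {G : Type u} [Group G] [Finite G]

namespace Tri

variable {V Q : Subgroup G} {g k : G} (h : Tri V Q g k)
include h

theorem exists_swap : ∃ s ∈ Subgroup.normalizer (↑(V ⊔ cj g V) : Set G),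
    cj s V = cj g V ∧ cj s (cj g V) = V := by
  set W := V ⊔ cj g V with hW
  set M := Subgroup.normalizer (V : Set G) with hM
  by_cases hno : ∃ x ∈ cj g (PP V Q), x ∈ Subgroup.normalizer (W : Set G) ∧ x ∉ M
  · obtain ⟨x, hx, hxW, hxM⟩ := hno
    have hxU := h.toPr.P'_norm hx
    have hle : cj x V ≤ W := by
      rintro _ ⟨v, hv, rfl⟩
      exact (Subgroup.mem_normalizer_iff.1 hxW v).1 (Subgroup.mem_sup_left hv)
    obtain ⟨b, hb, e⟩ := h.classify hle fun e => hxM (normalizer_of_cj_eq e)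
    have hbW := h.toPr.P_normW (h.kP b hb)
    have hbV : cj b V = V := cj_eq_of_normalizer (h.toHy.P_le (h.kP b hb))
    have hbb : b⁻¹ = b := inv_eq_of_mul_eq_one_right (h.toHy.sq_cj hb)
    refine ⟨x⁻¹ * b * x, mul_mem (mul_mem (inv_mem hxW) hbW) hxW, ?_, ?_⟩
    · rw [← cj_cj, e, cj_cj, mul_assoc, ← mul_assoc b, h.toHy.sq_cj hb, one_mul, ← cj_cj]
      exact cj_eq_of_normalizer (inv_mem hxU)
    · rw [← cj_cj, cj_eq_of_normalizer hxU, ← cj_cj, cj_cj b g, ← e, cj_cj, inv_mul_cancel, cj_one]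
  exfalso
  push Not at hno
  obtain ⟨b0, hb0, hb01⟩ := h.k_ne
  obtain ⟨u0, hu0, hu01⟩ := h.U_ne
  have hUW : ∀ a ∈ cj g V, a ∈ W := fun a ha => Subgroup.mem_sup_right ha
  have hVW : ∀ v ∈ V, v ∈ W := fun v hv => Subgroup.mem_sup_left hv
  -- (a)
  have hJ' : ∀ x ∈ cj g (PP V Q), x ∈ M → ∀ v ∈ V, v * x = x * v := by
    intro x hx hxM
    have hxv : ∀ v ∈ V, x * v * x⁻¹ ∈ V := fun v hv => h.toHy.conj_mem hxM hv
    suffices hs : ∀ v ∈ V, x * v * x⁻¹ = v by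
      intro v hv
      calc v * x = x * v * x⁻¹ * x := by rw [hs v hv]
        _ = x * v := by group
    by_contra hmov
    push Not at hmov
    obtain ⟨v1, hv1, hv1x⟩ := hmov
    have hc : v1 * (x * v1 * x⁻¹) ∈ V := mul_mem hv1 (hxv v1 hv1)
    have hc1 : v1 * (x * v1 * x⁻¹) ≠ 1 := fun e => hv1x (by
      rw [eq_inv_of_mul_eq_one_right e, h.toHy.inv_eq hv1])
    have hcx : x * (v1 * (x * v1 * x⁻¹)) = v1 * (x * v1 * x⁻¹) * x := by
      have h2 : x * x * v1 = v1 * (x * x) := (h.toPr.comm_UV hv1 (h.toPr.P'_sq hx)).symm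
      have h3 := h.comm _ (hxv v1 hv1) _ hv1
      calc x * (v1 * (x * v1 * x⁻¹)) = x * v1 * x⁻¹ * (x * x * v1) * x⁻¹ := by group
        _ = x * v1 * x⁻¹ * (v1 * (x * x)) * x⁻¹ := by rw [h2]
        _ = x * v1 * x⁻¹ * v1 * x := by group
        _ = v1 * (x * v1 * x⁻¹) * x := by rw [h3]
    generalize v1 * (x * v1 * x⁻¹) = c at hc hc1 hcx
    have hwV : c * u0 ∉ V := fun hm => hu01 (h.toPr.disjV h.gne
      (by simpa using mul_mem (inv_mem hc) hm) hu0)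
    obtain ⟨b, hb, hwb⟩ := h.cover (mul_mem (hVW c hc) (hUW u0 hu0)) hwV
    have hw1 : c * u0 ≠ 1 := fun e => hwV (e ▸ one_mem V)
    have hb1 : b ≠ 1 := by
      rintro rfl
      rw [one_mul] at hwb
      exact hc1 (h.toPr.disjV h.gne hc (by simpa using mul_mem hwb (inv_mem hu0)))
    have hfix : x * (c * u0) = c * u0 * x := by
      rw [← mul_assoc, hcx, mul_assoc, ← h.toPr.P'_comm hx hu0, mul_assoc]
    have hxN := h.toHy.cent_le hw1 hwb hfix
    have hneV : cj (b * g) V ≠ V := fun e => hwV (e ▸ hwb)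
    refine hv1x ?_
    obtain ⟨a, ha, ea⟩ := h.surj_left hb hb1 hv1
    have he : v1 * a ∈ cj (b * g) V := by
      rw [← cj_cj, ← ea, h.toPr.brk_comm (h.toPr.U_le_P ha) (h.kP b hb),
        ← (h.toPr.conj_U (h.kP b hb) ha).1]
      exact conj_mem_cj ha
    have he' := (Subgroup.mem_normalizer_iff.1 hxN _).1 he
    have hxa : x * a * x⁻¹ = a := by rw [← h.toPr.P'_comm hx ha, mul_inv_cancel_right]
    rw [show x * (v1 * a) * x⁻¹ = (x * v1 * x⁻¹) * (x * a * x⁻¹) by group, hxa] at he'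
    have hca : a * (x * v1 * x⁻¹) = (x * v1 * x⁻¹) * a := (h.toPr.comm_UV (hxv v1 hv1) ha).symm
    have hprod : v1 * a * (x * v1 * x⁻¹ * a) = v1 * (x * v1 * x⁻¹) := by
      rw [(show Commute a (x * v1 * x⁻¹) from hca).mul_mul_mul_comm, h.toHy.sq_cj ha, mul_one]
    have h1 := h.toPr.disjV hneV (mul_mem hv1 (hxv v1 hv1)) (hprod ▸ mul_mem he he')
    rw [eq_inv_of_mul_eq_one_right h1, h.toHy.inv_eq hv1]
  -- (b)
  have hbrkM : ∀ x ∈ cj g (PP V Q), ∀ v ∈ V, v ≠ 1 → ⁅x, v⁆ ∈ cj g V → x ∈ M := by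
    intro x hx v hv hv1 hbrk
    have hxU := h.toPr.P'_norm hx
    have hxv : x * v * x⁻¹ ∈ W := by
      rw [show x * v * x⁻¹ = ⁅x, v⁆ * v by simp [commutatorElement_def]]
      exact mul_mem (hUW _ hbrk) (hVW v hv)
    have hne : x * v * x⁻¹ ≠ 1 := fun e => hv1 (conj_eq_one_iff.1 e)
    obtain ⟨U, ⟨⟨y, rfl⟩, hUle, hU⟩, -⟩ := h.exists_unique_conj hxv hne
    have hle : cj x V ≤ W := h.toHy.ti' hne (conj_mem_cj hv) hU ▸ hUle
    exact hno x hx (h.toPr.norm_W (fun w hw => hle (conj_mem_cj hw))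
      fun a ha => hUW _ ((Subgroup.mem_normalizer_iff.1 hxU a).1 ha))
  -- (c)
  have hVP' : ∀ v ∈ V, v ∈ cj g (PP V Q) → v = 1 := by
    intro v hv hvP
    by_contra hv1
    obtain ⟨w, hw, hw1⟩ := h.V_ne
    refine hw1 (h.toPr.disjV h.gne hw (h.toPr.P'_cent (h.toPr.V_norm_U hw) fun y hy => ?_))
    exact hJ' y hy (hbrkM y hy v hv hv1 (h.toPr.P'_brk hy hvP)) w hw
  obtain ⟨x0, hx0, hx0M⟩ : ∃ x ∈ cj g (PP V Q), x ∉ M := by
    by_contra hall
    push Not at hall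
    obtain ⟨w, hw, hw1⟩ := h.V_ne
    exact hw1 (h.toPr.disjV h.gne hw (h.toPr.P'_cent (h.toPr.V_norm_U hw) fun y hy =>
      hJ' y hy (hall y hy) w hw))
  have hPP' : ∀ j ∈ PP V Q, j ∈ Subgroup.normalizer (cj g V : Set G) →
      ∀ x ∈ cj g (PP V Q), x ∈ PP V Q → ⁅j, x⁆ = 1 := by
    intro j hj hjN x hx hxP
    refine hVP' _ (h.toHy.PP_comm hj hxP) ?_
    rw [commutatorElement_def]
    exact mul_mem (h.toPr.P'_normal hjN hx) (inv_mem hx)
  -- (d)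
  have hxv' : ∀ x ∈ cj g (PP V Q), ∀ v ∈ V, ⁅x, v⁆ ∈ cj g (PP V Q) ∧ ⁅x, v⁆ ∈ M := by
    intro x hx v hv
    have hy : ⁅x, v⁆ ∈ cj g (PP V Q) := by
      rw [show ⁅x, v⁆ = x * (v * x⁻¹ * v⁻¹) by simp [commutatorElement_def, mul_assoc]]
      exact mul_mem hx (h.toPr.P'_normal (h.toPr.V_norm_U hv) (inv_mem hx))
    refine ⟨hy, ?_⟩
    by_cases hv1 : v = 1
    · subst hv1; simp
    refine hbrkM _ hy v hv hv1 ?_
    have hvv := h.toHy.inv_eq hv
    have e : ⁅⁅x, v⁆, v⁆ = ⁅x, v⁆ * ⁅x, v⁆ := by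
      simp only [commutatorElement_def, mul_inv_rev, inv_inv, hvv, mul_assoc]
      rw [← mul_assoc v v, h.sq v hv, one_mul]
    rw [e]
    exact h.toPr.P'_sq hy
  -- (e)
  have hI : ∀ i ∈ PP V Q, i ∈ cj g (PP V Q) → i ∈ cj g V := by
    intro i hi hi'
    obtain ⟨a, ha, ea⟩ := h.surj_left hb0 hb01 (h.toHy.PP_comm hi (h.kP b0 hb0))
    have haP := h.toPr.U_le_P ha
    have hmem := h.cent_of_fix (mul_mem haP hi) hb0 hb01 (by
      rw [h.toPr.brk_mul_left haP hi (h.kP b0 hb0), ea]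
      exact h.sq _ (h.toHy.PP_comm hi (h.kP b0 hb0))) fun j hj hjN => by
        have h1 := commutatorElement_eq_one_iff_mul_comm.1 (hPP' j hj hjN i hi' hi)
        exact ((show Commute a j from (h.J_cent hj hjN ha).symm).mul_left h1.symm).eq
    have h1 := hVP' _ hmem (mul_mem (h.toPr.U_le_P' ha) hi')
    rw [eq_inv_of_mul_eq_one_right h1]
    exact inv_mem ha
  -- (f)
  have hJJ : ∀ j ∈ PP V Q, j ∈ Subgroup.normalizer (cj g V : Set G) →
      ∀ y ∈ cj g (PP V Q), y ∈ M → ⁅j, y⁆ ∈ cj g V := by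
    intro j hj hjN y hy hyM
    refine hI _ ?_ ?_
    · rw [show ⁅j, y⁆ = j * (y * j⁻¹ * y⁻¹) by simp [commutatorElement_def, mul_assoc]]
      exact mul_mem hj (h.toHy.P_normal hyM (inv_mem hj))
    · rw [commutatorElement_def]
      exact mul_mem (h.toPr.P'_normal hjN hy) (inv_mem hy)
  obtain ⟨v0, hv0, hv01⟩ := h.V_ne
  -- (g)
  have hg : ∀ j ∈ PP V Q, j ∈ Subgroup.normalizer (cj g V : Set G) →
      ∀ x ∈ cj g (PP V Q), ∃ z ∈ cj g (PP V Q), z ∈ M ∧ j * x * j⁻¹ = x * z := by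
    intro j hj hjN x hx
    refine ⟨x⁻¹ * (j * x * j⁻¹), mul_mem (inv_mem hx) (h.toPr.P'_normal hjN hx), ?_, by group⟩
    refine hbrkM _ (mul_mem (inv_mem hx) (h.toPr.P'_normal hjN hx)) v0 hv0 hv01 ?_
    obtain ⟨hy, hyM⟩ := hxv' x hx v0 hv0
    have ht := hJJ j hj hjN _ hy hyM
    have e1 : ⁅x⁻¹ * (j * x * j⁻¹), v0⁆ = x⁻¹ * ⁅j, ⁅x, v0⁆⁆ * x := by
      have hjv : j⁻¹ * v0 = v0 * j⁻¹ := (Hy.P_commV (inv_mem hj) hv0).symm
      have e2 : j * x * j⁻¹ * v0 * (j * x * j⁻¹)⁻¹ = ⁅j, ⁅x, v0⁆⁆ * (x * v0 * x⁻¹) := by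
        calc j * x * j⁻¹ * v0 * (j * x * j⁻¹)⁻¹ = j * x * (j⁻¹ * v0) * j * x⁻¹ * j⁻¹ := by group
          _ = j * x * (v0 * j⁻¹) * j * x⁻¹ * j⁻¹ := by rw [hjv]
          _ = j * (x * v0 * x⁻¹ * v0⁻¹) * (v0 * j⁻¹) := by group
          _ = j * (x * v0 * x⁻¹ * v0⁻¹) * (j⁻¹ * v0) := by rw [hjv]
          _ = _ := by simp [commutatorElement_def, mul_assoc]
      calc ⁅x⁻¹ * (j * x * j⁻¹), v0⁆
          = x⁻¹ * (j * x * j⁻¹ * v0 * (j * x * j⁻¹)⁻¹) * x * v0⁻¹ := by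
            simp [commutatorElement_def, mul_assoc]
        _ = x⁻¹ * (⁅j, ⁅x, v0⁆⁆ * (x * v0 * x⁻¹)) * x * v0⁻¹ := by rw [e2]
        _ = _ := by group
    rw [e1, show x⁻¹ * ⁅j, ⁅x, v0⁆⁆ * x = ⁅j, ⁅x, v0⁆⁆ by
      rw [mul_assoc, h.toPr.P'_comm hx ht, inv_mul_cancel_left]]
    exact ht
  -- (h)
  have hJab : ∀ j1 ∈ PP V Q, j1 ∈ Subgroup.normalizer (cj g V : Set G) →
      ∀ j2 ∈ PP V Q, j2 ∈ Subgroup.normalizer (cj g V : Set G) → j1 * j2 = j2 * j1 := by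
    intro j1 h1 h1N j2 h2 h2N
    refine commutatorElement_eq_one_iff_mul_comm.1 ?_
    by_contra hc1
    have hc := h.toHy.PP_comm h1 h2
    refine hx0M ?_
    suffices ∀ x ∈ cj g (PP V Q), x⁻¹ ∈ M by simpa using inv_mem (this x0 hx0)
    intro x hx
    refine hbrkM _ (inv_mem hx) _ hc hc1 ?_
    obtain ⟨z1, hz1, hz1M, e1⟩ := hg j1 h1 h1N x hx
    obtain ⟨z2, hz2, hz2M, e2⟩ := hg j2 h2 h2N x hx
    set t := ⁅j1, z2⁆ with ht
    set t' := ⁅j2, z1⁆ with ht'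
    have htU : t ∈ cj g V := hJJ j1 h1 h1N z2 hz2 hz2M
    have htU' : t' ∈ cj g V := hJJ j2 h2 h2N z1 hz1 hz1M
    set c := ⁅j1, j2⁆ with hcdef
    have hA : j1 * (j2 * x * j2⁻¹) * j1⁻¹ = x * z1 * t * z2 := by
      rw [e2, show j1 * (x * z2) * j1⁻¹ = (j1 * x * j1⁻¹) * (j1 * z2 * j1⁻¹) by group, e1, ht]
      simp [commutatorElement_def, mul_assoc]
    have hB : j2 * (j1 * x * j1⁻¹) * j2⁻¹ = x * z2 * t' * z1 := by
      rw [e1, show j2 * (x * z1) * j2⁻¹ = (j2 * x * j2⁻¹) * (j2 * z1 * j2⁻¹) by group, e2, ht']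
      simp [commutatorElement_def, mul_assoc]
    have hfix : c * (z2 * t' * z1) = z2 * t' * z1 * c :=
      (((show Commute c z2 from hJ' z2 hz2 hz2M c hc).mul_right
        (show Commute c t' from h.toPr.comm_UV hc htU')).mul_right
        (show Commute c z1 from hJ' z1 hz1 hz1M c hc)).eq
    have hAB : c * (x * z2 * t' * z1) * c⁻¹ = x * z1 * t * z2 := by
      rw [← hA, ← hB, hcdef, commutatorElement_def]
      group
    have hbr : ⁅x⁻¹, c⁆ = z1 * t * z2 * (z2 * t' * z1)⁻¹ := by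
      have hfix' : c⁻¹ * (z2 * t' * z1) = z2 * t' * z1 * c⁻¹ :=
        (show Commute c (z2 * t' * z1) from hfix).inv_left.eq
      calc ⁅x⁻¹, c⁆ = x⁻¹ * (c * x * (c⁻¹ * (z2 * t' * z1))) * (z2 * t' * z1)⁻¹ := by
            simp [commutatorElement_def, mul_assoc]
        _ = x⁻¹ * (c * x * (z2 * t' * z1 * c⁻¹)) * (z2 * t' * z1)⁻¹ := by rw [hfix']
        _ = x⁻¹ * (c * (x * z2 * t' * z1) * c⁻¹) * (z2 * t' * z1)⁻¹ := by group
        _ = _ := by rw [hAB]; group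
    have htz : z1 * t = t * z1 := (h.toPr.P'_comm hz1 htU).symm
    have ht'z : z2 * t' = t' * z2 := (h.toPr.P'_comm hz2 htU').symm
    have hf : ⁅x⁻¹, c⁆ = t * ⁅z1, z2⁆ * t'⁻¹ := by
      rw [hbr, htz, ht'z]
      simp [commutatorElement_def, mul_assoc]
    rw [hf]
    exact mul_mem (mul_mem htU (h.toPr.P'_brk hz1 hz2)) (inv_mem htU')
  -- (i)
  have hJW : ∀ j ∈ PP V Q, j ∈ Subgroup.normalizer (cj g V : Set G) → j ∈ W := by
    intro j hj hjN
    obtain ⟨a, ha, ea⟩ := h.surj_left hb0 hb01 (h.toHy.PP_comm hj (h.kP b0 hb0))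
    have haP := h.toPr.U_le_P ha
    have hmem := h.cent_of_fix (mul_mem haP hj) hb0 hb01 (by
      rw [h.toPr.brk_mul_left haP hj (h.kP b0 hb0), ea]
      exact h.sq _ (h.toHy.PP_comm hj (h.kP b0 hb0))) fun i hi hiN =>
        ((show Commute a i from (h.J_cent hi hiN ha).symm).mul_left (hJab j hj hjN i hi hiN)).eq
    simpa using mul_mem (inv_mem (hUW a ha)) (hVW _ hmem)
  obtain ⟨hy, hyM⟩ := hxv' x0 hx0 v0 hv0
  have hyU : ⁅x0, v0⁆ ∉ cj g V := fun hU => hx0M (hbrkM x0 hx0 v0 hv0 hv01 hU)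
  generalize ⁅x0, v0⁆ = y at hy hyM hyU
  have hyW : ∀ w ∈ W, y * w * y⁻¹ = w := by
    intro w hw
    obtain ⟨v, hv, a, ha, rfl⟩ := h.toPr.mem_W.1 hw
    rw [← ((show Commute v y from hJ' y hy hyM v hv).mul_left
      (show Commute a y from h.toPr.P'_comm hy ha)).eq, mul_inv_cancel_right]
  have hyb : ∀ b ∈ cj k V, ⁅y, b⁆ ∈ V := by
    intro b hb
    by_cases hb1 : b = 1
    · subst hb1; simp
    have hybP := h.toHy.P_normal hyM (h.kP b hb)
    obtain ⟨w, hwP, hwN, b1, hb1', e⟩ := h.decomp hybP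
    have hw := hJW w hwP hwN
    have hbb : b * b = 1 := h.toHy.sq_cj hb
    have hb11 : b1 ≠ 1 := by
      rintro rfl
      rw [mul_one] at e
      have h1 := hyW w hw
      have hbw : b = w := by
        rw [← h1] at e
        exact mul_left_cancel (mul_right_cancel e)
      exact hb1 (h.kN b hb (hbw ▸ hwN))
    have hb1sq : b1 * b1 = 1 := h.toHy.sq_cj hb1'
    have hsq : w * b1 * (w * b1) = 1 := by
      rw [← e, show y * b * y⁻¹ * (y * b * y⁻¹) = y * (b * b) * y⁻¹ by group, hbb]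
      group
    have hbw : b1 * w = w * b1 := by
      calc b1 * w = w⁻¹ * (w * b1 * (w * b1)) * b1⁻¹ := by group
        _ = w * b1 := by rw [hsq, mul_one, inv_eq_of_mul_eq_one_right (h.toPr.W_sq hw),
              inv_eq_of_mul_eq_one_right hb1sq]
    obtain ⟨v, hv, a, ha, rfl⟩ := h.toPr.mem_W.1 hw
    have ha1 : a = 1 := by
      by_contra ha1
      have hvb : v * b1 = b1 * v := Hy.P_commV (h.kP b1 hb1') hv
      have hab : b1 * a = a * b1 := by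
        calc b1 * a = v⁻¹ * (v * b1 * a) := by group
          _ = v⁻¹ * (b1 * (v * a)) := by rw [hvb, mul_assoc]
          _ = v⁻¹ * (v * a * b1) := by rw [hbw]
          _ = a * b1 := by group
      exact hb11 (h.kN b1 hb1' (h.toHy.cent_le ha1 ha hab))
    subst ha1
    rw [mul_one] at e
    have hbb1 : b1 = b := by
      refine h.inj_right hu0 hu01 hb1' hb ?_
      have h1 := hyW _ (hVW _ (h.toHy.PP_comm (h.toPr.U_le_P hu0) (h.kP b hb)))
      rw [show y * ⁅u0, b⁆ * y⁻¹ = ⁅y * u0 * y⁻¹, y * b * y⁻¹⁆ by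
        simp [commutatorElement_def, mul_assoc], hyW u0 (hUW u0 hu0), e,
        h.toPr.brk_mul_right (h.toPr.U_le_P hu0) (h.toHy.V_le_P hv) (h.kP b1 hb1'),
        show ⁅u0, v⁆ = 1 from commutatorElement_eq_one_iff_mul_comm.2 (h.toPr.comm_UV hv hu0).symm,
        one_mul] at h1
      exact h1
    rw [commutatorElement_def, e, hbb1, mul_inv_cancel_right]
    exact hv
  have hyP := h.toHy.stab hyM (hJ' y hy hyM) fun p hp => by
    obtain ⟨j, hj, hjN, b, hb, rfl⟩ := h.decomp hp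
    rw [show ⁅y, j * b⁆ = (y * j * y⁻¹) * ⁅y, b⁆ * j⁻¹ by simp [commutatorElement_def, mul_assoc],
      hyW j (hJW j hj hjN), ← Hy.P_commV hj (hyb b hb), mul_inv_cancel_right]
    exact hyb b hb
  exact hyU (hI y hyP hy)

end Tri

end Cfsg.Agent.Solv.TIConj
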